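import Groth.Agent.Desc59.UnivInjFF
import Mathlib.RingTheory.PicardGroup
import Mathlib.RingTheory.TensorProduct.IncludeLeftSubRight
import Mathlib.RingTheory.TensorProduct.Maps

/-!
Unit cocycles of a faithfully flat algebra over a ring with trivial Picard group are coboundaries.
-/

set_option autoImplicit false
set_option maxHeartbeats 400000

universe u

open scoped TensorProduct

namespace Groth.Agent.EtPic91

open Algebra.TensorProduct (includeLeft includeRight)

variable {A B : Type u} [CommRing A] [CommRing B] [Algebra A B]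

/-- The map of threefold products omitting the last factor. -/
noncomputable abbrev i12 : B ⊗[A] B →ₐ[A] B ⊗[A] (B ⊗[A] B) :=
  Algebra.TensorProduct.map (AlgHom.id A B) (includeLeft (R := A) (S := A) (A := B) (B := B))

/-- The map of threefold products omitting the middle factor. -/
noncomputable abbrev i13 : B ⊗[A] B →ₐ[A] B ⊗[A] (B ⊗[A] B) :=
  Algebra.TensorProduct.map (AlgHom.id A B) (includeRight (R := A) (A := B) (B := B))

/-- The map of threefold products omitting the first factor. -/
noncomputable abbrev i23 : B ⊗[A] B →ₐ[A] B ⊗[A] (B ⊗[A] B) := includeRight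

variable (A B) in
/-- The cocycle condition. -/
def IsCocycle (u : B ⊗[A] B) : Prop := i12 u * i23 u = i13 u

/-- The coaction attached to an element. -/
noncomputable def coact (u : B ⊗[A] B) : B →ₗ[A] B ⊗[A] B :=
  (LinearMap.mulRight A u).comp (includeLeft (R := A) (S := A) (A := B) (B := B)).toLinearMap

theorem coact_apply (u : B ⊗[A] B) (b : B) : coact u b = (b ⊗ₜ[A] (1 : B)) * u := rfl

/-- The invariants of the coaction attached to an element. -/
noncomputable abbrev fixed (u : B ⊗[A] B) : Submodule A B := Desc59.invariants (coact u)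

theorem mem_fixed {u : B ⊗[A] B} {b : B} : b ∈ fixed u ↔ (b ⊗ₜ[A] (1 : B)) * u = (1 : B) ⊗ₜ[A] b :=
  Desc59.mem_invariants (coact u) b

theorem span_fixed [Module.FaithfullyFlat A B] {u : B ⊗[A] B} (hu : IsUnit u) (hc : IsCocycle A B u) :
    Ideal.span (fixed u : Set B) = ⊤ := by
  have e12 : ∀ x : B ⊗[A] B, LinearMap.lTensor B (coact u) x = i12 x * i23 u := by
    intro x
    induction x with
    | zero => simp
    | tmul s w => simp [coact_apply, i12, i23, Algebra.TensorProduct.tmul_mul_tmul]
    | add x y hx hy => rw [map_add, hx, hy, map_add, add_mul]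
  have e13 : ∀ x : B ⊗[A] B, LinearMap.lTensor B (TensorProduct.mk A B B 1) x = i13 x := by
    intro x
    induction x with
    | zero => simp
    | tmul s w => simp [i13]
    | add x y hx hy => rw [map_add, hx, hy, map_add]
  have hψ : ∀ b, LinearMap.lTensor B (coact u) (coact u b) =
      LinearMap.lTensor B (TensorProduct.mk A B B 1) (coact u b) := by
    intro b
    rw [e12, e13, coact_apply, map_mul, map_mul, mul_assoc, hc]
    simp [i12, i13, Algebra.TensorProduct.one_def]
  have hinj : Function.Injective (coact u) := fun a b h => by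
    rw [coact_apply, coact_apply] at h
    exact Algebra.TensorProduct.includeLeft_injective (R := A) (S := A) (A := B) (B := B)
      (FaithfulSMul.algebraMap_injective A B) (hu.mul_left_inj.1 h)
  have hlin : ∀ (s v : B), coact u (s • v) = s • coact u v := fun s v => by
    rw [coact_apply, coact_apply, ← smul_mul_assoc, TensorProduct.smul_tmul']
  have hb := Desc59.lift_invariants_bijective (Desc59.dualSplit_of_faithfullyFlat A B) hlin hinj hψ
  rw [Ideal.eq_top_iff_one]
  obtain ⟨w, hw⟩ := hb.2 1
  rw [← hw]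
  clear hw
  induction w with
  | zero => simp
  | tmul s m => exact Ideal.mul_mem_left _ s (Ideal.subset_span m.2)
  | add x y hx hy => rw [map_add]; exact add_mem hx hy

theorem mul_mem_range [Module.FaithfullyFlat A B] {u v : B ⊗[A] B} (huv : u * v = 1) {m n : B}
    (hm : m ∈ fixed u) (hn : n ∈ fixed v) : m * n ∈ Set.range (algebraMap A B) := by
  have h : ((m * n) ⊗ₜ[A] (1 : B)) - (1 : B) ⊗ₜ[A] (m * n) = 0 := by
    rw [sub_eq_zero]
    calc (m * n) ⊗ₜ[A] (1 : B) = ((m ⊗ₜ[A] (1 : B)) * u) * ((n ⊗ₜ[A] (1 : B)) * v) := by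
          rw [mul_mul_mul_comm, huv, mul_one, Algebra.TensorProduct.tmul_mul_tmul, one_mul]
      _ = (1 : B) ⊗ₜ[A] (m * n) := by
          rw [mem_fixed.1 hm, mem_fixed.1 hn, Algebra.TensorProduct.tmul_mul_tmul, one_mul]
  exact (Algebra.IsEffective.of_faithfullyFlat A B (m * n)).1 h

/-- Unit cocycles are coboundaries. -/
theorem exists_coboundary [Module.FaithfullyFlat A B] [Subsingleton (CommRing.Pic A)]
    (u : (B ⊗[A] B)ˣ) (hc : IsCocycle A B (u : B ⊗[A] B)) :
    ∃ b : Bˣ, ((b : B) ⊗ₜ[A] (1 : B)) * (u : B ⊗[A] B) = (1 : B) ⊗ₜ[A] (b : B) := by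
  classical
  have hc' : IsCocycle A B ((u⁻¹ : (B ⊗[A] B)ˣ) : B ⊗[A] B) := by
    have h : Units.map (i12 (A := A) (B := B)).toMonoidHom u * Units.map (i23 (A := A) (B := B)).toMonoidHom u =
        Units.map (i13 (A := A) (B := B)).toMonoidHom u := Units.ext hc
    have h' := congrArg (fun x : (B ⊗[A] (B ⊗[A] B))ˣ => x⁻¹) h
    simp only [mul_inv_rev] at h'
    rw [← map_inv, ← map_inv, ← map_inv] at h'
    exact (_root_.mul_comm _ _).trans (congrArg Units.val h')
  let M := fixed (A := A) (u : B ⊗[A] B)
  let N := fixed (A := A) ((u⁻¹ : (B ⊗[A] B)ˣ) : B ⊗[A] B)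
  have hrange : ∀ (m : M) (n : N), ∃ a : A, algebraMap A B a = (m : B) * n := fun m n =>
    mul_mem_range u.mul_inv m.2 n.2
  choose φ hφ using hrange
  have hinj := FaithfulSMul.algebraMap_injective A B
  let Φ : M ⊗[A] N →ₗ[A] A := TensorProduct.lift (LinearMap.mk₂ A φ
    (fun m m' n => hinj (by simp [hφ, add_mul])) (fun a m n => hinj (by simp [hφ, Algebra.smul_def, mul_assoc]))
    (fun m n n' => hinj (by simp [hφ, mul_add]))
    (fun a m n => hinj (by simp [hφ, Algebra.smul_def, mul_left_comm])))
  have hΦ : ∀ m n, Φ (m ⊗ₜ n) = φ m n := fun m n => rfl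
  let I : Ideal A := LinearMap.range Φ
  have hI : I = ⊤ := by
    have h : I.map (algebraMap A B) = ⊤ := by
      rw [← top_le_iff]
      calc ⊤ = Ideal.span (M : Set B) * Ideal.span (N : Set B) := by
            rw [span_fixed u.isUnit hc, span_fixed u⁻¹.isUnit hc', Ideal.top_mul]
        _ ≤ I.map (algebraMap A B) := by
            rw [Ideal.span_mul_span', Ideal.span_le]
            rintro _ ⟨m, hm, n, hn, rfl⟩
            change m * n ∈ I.map (algebraMap A B)
            rw [← hφ ⟨m, hm⟩ ⟨n, hn⟩]
            exact Ideal.mem_map_of_mem _ ⟨_, hΦ _ _⟩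
    rw [← Ideal.comap_map_eq_self_of_faithfullyFlat (B := B) I, h, Ideal.comap_top]
  obtain ⟨e, he⟩ : (1 : A) ∈ I := hI ▸ trivial
  have key : ∀ x : M ⊗[A] N, x = Φ x • e := by
    have hswap : ∀ (m m' : M) (n n' : N), φ m' n' • (m ⊗ₜ[A] n) = φ m n • (m' ⊗ₜ[A] n') := by
      intro m m' n n'
      have h1 : φ m' n' • m = φ m n' • m' := Subtype.ext (by
        simp only [Submodule.coe_smul, Algebra.smul_def, hφ]; ring)
      have h2 : φ m n' • n = φ m n • n' := Subtype.ext (by
        simp only [Submodule.coe_smul, Algebra.smul_def, hφ]; ring)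
      rw [TensorProduct.smul_tmul', h1, TensorProduct.smul_tmul, h2, TensorProduct.tmul_smul]
    have : ∀ x y : M ⊗[A] N, Φ y • x = Φ x • y := by
      intro x y
      induction x with
      | zero => simp
      | tmul m n =>
        induction y with
        | zero => simp
        | tmul m' n' => rw [hΦ, hΦ]; exact hswap m m' n n'
        | add a b ha hb => rw [map_add, add_smul, ha, hb, smul_add]
      | add a b ha hb => rw [map_add, add_smul, smul_add, ha, hb]
    intro x
    rw [← this x e, he, one_smul]
  have hbij : Function.Bijective Φ := by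
    refine ⟨fun x y hxy => by rw [key x, key y, hxy], fun a => ⟨a • e, by rw [map_smul, he, smul_eq_mul, mul_one]⟩⟩
  have : Module.Invertible A M := Module.Invertible.left (LinearEquiv.ofBijective Φ hbij)
  obtain ⟨ℓ⟩ := Module.Invertible.free_iff_linearEquiv.1 (inferInstance : Module.Free A M)
  have hgen : IsUnit ((ℓ.symm 1 : M) : B) := by
    rw [← Ideal.span_singleton_eq_top, ← top_le_iff, ← span_fixed u.isUnit hc, Ideal.span_le]
    intro m hm
    refine Ideal.mem_span_singleton'.2 ⟨algebraMap A B (ℓ ⟨m, hm⟩), ?_⟩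
    rw [← Algebra.smul_def, ← Submodule.coe_smul, ← map_smul, smul_eq_mul, mul_one, LinearEquiv.symm_apply_apply]
  refine ⟨hgen.unit, ?_⟩
  rw [IsUnit.unit_spec]
  exact mem_fixed.1 (ℓ.symm 1).2

end Groth.Agent.EtPic91
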