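import Groth.Agent.EtPic91.AffObj
import Groth.Agent.EtPic91.UnitDescent
import Groth.Agent.Unr55.Et.AffineRefine
import Groth.Agent.Unr55.Et.ExtCompareClass
import Groth.Agent.Unr55.Et.StrictHensH
import Mathlib.RingTheory.Flat.FaithfullyFlat.Algebra

/-!
`H¹_et(Spec A, G_m) = 0` when the Picard group of `A` is trivial.
-/

set_option autoImplicit false
set_option backward.isDefEq.respectTransparency.types false
set_option maxHeartbeats 400000

universe u

open CategoryTheory CategoryTheory.Limits AlgebraicGeometry Opposite CategoryTheory.Abelian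
open scoped TensorProduct

namespace Groth.Agent.EtPic91

open Algebra.TensorProduct (includeLeft includeRight)
open Groth.Agent.Unr55

variable {A : Type u} [CommRing A]

local notation "X₀" => Spec (CommRingCat.of A)

theorem map_map (F : EtCoh.Ab X₀) {U V W : (X₀).Etale} (g : W ⟶ V) (h : V ⟶ U) (x : EtCoh.sect F U) :
    F.obj.map g.op (F.obj.map h.op x) = F.obj.map (g ≫ h).op x := by
  rw [op_comp, Functor.map_comp, ConcreteCategory.comp_apply]

theorem sect_exact {S : ShortComplex (EtCoh.Ab X₀)} (hS : S.ShortExact) (U : (X₀).Etale) :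
    Function.Injective (S.f.hom.app (op U)) ∧
      ∀ x, S.g.hom.app (op U) x = 0 → ∃ y, S.f.hom.app (op U) y = x := by
  let G : EtCoh.Ab X₀ ⥤ AddCommGrpCat.{u + 1} :=
    sheafToPresheaf _ _ ⋙ (evaluation _ AddCommGrpCat.{u + 1}).obj (op U)
  have := hS.mono_f
  have : G.Additive := { map_add := rfl }
  have h1 : Mono (G.map S.f) := inferInstance
  exact ⟨(AddCommGrpCat.mono_iff_injective _).1 h1,
    (ShortComplex.ab_exact_iff _).1 (hS.exact.map_of_mono_of_preservesKernel G inferInstance inferInstance)⟩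

theorem topLift (W : (X₀).Etale) : Nonempty (W ⟶ EtCoh.top X₀) := ⟨(EtSh.isTerminalTop _).from W⟩

set_option maxHeartbeats 1000000 in
theorem section_surjective [Subsingleton (CommRing.Pic A)] {S : ShortComplex (EtCoh.Ab X₀)} (hS : S.ShortExact)
    (e : S.X₁ ≅ EtCoh.Gm X₀) (s : EtCoh.sect S.X₃ (EtCoh.top X₀)) :
    ∃ σ : EtCoh.sect S.X₂ (EtCoh.top X₀), S.g.hom.app (op (EtCoh.top X₀)) σ = s := by
  have := hS.epi_g
  have : CompactSpace (EtCoh.top X₀).left := inferInstanceAs (CompactSpace ↥(X₀))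
  obtain ⟨Y, ⟨hY1, hY2⟩, hY3⟩ := Unr55.EtaleAff.exists_cov (U := EtCoh.top X₀) S.g s
  have : IsAffine Y.left.left := hY1
  let ψ : CommRingCat.of A ⟶ Γ(Y.left.left, ⊤) := Spec.preimage (Y.left.left.isoSpec.inv ≫ Y.left.hom)
  let B : Type u := Γ(Y.left.left, ⊤)
  letI : Algebra A B := ψ.hom.toAlgebra
  have hψ : Spec.map (CommRingCat.ofHom (algebraMap A B)) = Y.left.left.isoSpec.inv ≫ Y.left.hom :=
    Spec.map_preimage _
  have : Etale Y.left.hom := Y.left.prop
  have : Algebra.Etale A B := by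
    refine RingHom.etale_algebraMap.1 ((HasRingHomProperty.Spec_iff (P := @Etale) (φ := CommRingCat.ofHom (algebraMap A B))).1 ?_)
    rw [hψ]
    infer_instance
  have hsurj : Surjective (Spec.map (CommRingCat.ofHom (algebraMap A B))) := by
    have hw : Y.hom.left ≫ (EtCoh.top X₀).hom = Y.left.hom := Over.w Y.hom.hom
    rw [hψ, ← hw]
    have := hY2
    have : Surjective (EtCoh.top X₀).hom := inferInstanceAs (Surjective (𝟙 _))
    infer_instance
  have : Module.FaithfullyFlat A B :=
    Module.FaithfullyFlat.of_comap_surjective fun p => hsurj.surj p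
  let k : affObj A B ⟶ Y.left := MorphismProperty.Over.homMk Y.left.left.isoSpec.inv hψ.symm trivial
  obtain ⟨t, ht⟩ : (Presheaf.imageSieve S.g.hom s).arrows (k ≫ Y.hom) :=
    (Presheaf.imageSieve S.g.hom s).downward_closed hY3 k
  have hterm := EtSh.isTerminalTop X₀
  let a : affObj A B ⟶ EtCoh.top X₀ := k ≫ Y.hom
  have ht' : S.g.hom.app (op (affObj A B)) t = S.X₃.obj.map a.op s := ht
  have : Algebra.Etale A (B ⊗[A] B) := Algebra.Etale.comp A B (B ⊗[A] B)
  have : Algebra.Etale A (B ⊗[A] (B ⊗[A] B)) := Algebra.Etale.comp A B (B ⊗[A] (B ⊗[A] B))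
  let p1 := affMap (includeLeft : B →ₐ[A] B ⊗[A] B)
  let p2 := affMap (includeRight : B →ₐ[A] B ⊗[A] B)
  let d := S.X₂.obj.map p2.op t - S.X₂.obj.map p1.op t
  have hgnat : ∀ {U V : (X₀).Etale} (g : V ⟶ U) (x : EtCoh.sect S.X₂ U),
      S.g.hom.app (op V) (S.X₂.obj.map g.op x) = S.X₃.obj.map g.op (S.g.hom.app (op U) x) :=
    fun g x => NatTrans.naturality_apply S.g.hom g.op x
  have hfnat : ∀ {U V : (X₀).Etale} (g : V ⟶ U) (x : EtCoh.sect S.X₁ U),
      S.f.hom.app (op V) (S.X₁.obj.map g.op x) = S.X₂.obj.map g.op (S.f.hom.app (op U) x) :=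
    fun g x => NatTrans.naturality_apply S.f.hom g.op x
  have hd : S.g.hom.app _ d = 0 := by
    rw [map_sub, hgnat, hgnat, ht', map_map, map_map, hterm.hom_ext (p2 ≫ a) (p1 ≫ a), sub_self]
  obtain ⟨γ, hγ⟩ := (sect_exact hS _).2 d hd
  let val : ∀ {C : Type u} [CommRing C] [Algebra A C] [Algebra.Etale A C],
      EtCoh.sect S.X₁ (affObj A C) → C := fun x => unitVal (e.hom.hom.app (op (affObj A _)) x)
  have val_add : ∀ {C : Type u} [CommRing C] [Algebra A C] [Algebra.Etale A C]
      (x y : EtCoh.sect S.X₁ (affObj A C)), val (x + y) = val x * val y := fun x y => by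
    show unitVal _ = _
    rw [map_add, unitVal_add]
  have val_map : ∀ {C D : Type u} [CommRing C] [Algebra A C] [Algebra.Etale A C] [CommRing D] [Algebra A D]
      [Algebra.Etale A D] (h : C →ₐ[A] D) (x : EtCoh.sect S.X₁ (affObj A C)),
      val (S.X₁.obj.map (affMap h).op x) = h (val x) := fun h x => by
    show unitVal _ = _
    rw [← unitVal_map]
    exact congrArg unitVal (NatTrans.naturality_apply e.hom.hom (affMap h).op x)
  have hcoc : IsCocycle A B (val γ) := by
    have h12L : (i12 (A := A) (B := B)).comp includeLeft = (i13 (A := A) (B := B)).comp includeLeft :=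
      AlgHom.ext fun b => by simp [i12, i13, Algebra.TensorProduct.one_def]
    have h12R : (i12 (A := A) (B := B)).comp includeRight = (i23 (A := A) (B := B)).comp includeLeft :=
      AlgHom.ext fun b => by simp [i12, i23]
    have h13R : (i13 (A := A) (B := B)).comp includeRight = (i23 (A := A) (B := B)).comp includeRight :=
      AlgHom.ext fun b => by simp [i13, i23]
    have key : S.X₁.obj.map (affMap (i12 (A := A) (B := B))).op γ + S.X₁.obj.map (affMap i23).op γ =
        S.X₁.obj.map (affMap i13).op γ := by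
      apply (sect_exact hS _).1
      rw [map_add, hfnat, hfnat, hfnat, hγ]
      simp only [d, map_sub, map_map, p1, p2, affMap_comp, h12L, h12R, h13R]
      abel
    have h := congrArg val key
    rwa [val_add, val_map, val_map, val_map] at h
  obtain ⟨b, hb⟩ := exists_coboundary (isUnit_unitVal (e.hom.hom.app (op (affObj A (B ⊗[A] B))) γ)).unit hcoc
  obtain ⟨β₀, hβ₀⟩ := unitVal_surjective (A := A) b
  let β : EtCoh.sect S.X₁ (affObj A B) := e.inv.hom.app (op (affObj A B)) β₀
  have hβ : val β = b := by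
    show unitVal _ = _
    rw [← hβ₀]
    exact congrArg unitVal (ConcreteCategory.congr_hom (congrArg (fun m => m.hom.app (op (affObj A B))) e.inv_hom_id) β₀)
  have hγβ : γ = S.X₁.obj.map p2.op β - S.X₁.obj.map p1.op β := by
    rw [eq_sub_iff_add_eq, add_comm]
    refine (?_ : Function.Injective (val (C := B ⊗[A] B))) ?_
    · intro x y hxy
      have h := unitVal_injective hxy
      have hb := congrArg (e.inv.hom.app (op (affObj A (B ⊗[A] B)))) h
      rwa [← ConcreteCategory.comp_apply, ← ConcreteCategory.comp_apply,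
        show e.hom.hom.app (op (affObj A (B ⊗[A] B))) ≫ e.inv.hom.app (op (affObj A (B ⊗[A] B))) = 𝟙 _ from
          congrArg (fun m => m.hom.app (op (affObj A (B ⊗[A] B)))) e.hom_inv_id,
        ConcreteCategory.id_apply, ConcreteCategory.id_apply] at hb
    rw [val_add, val_map, val_map, hβ]
    exact hb
  let t' := t - S.f.hom.app (op (affObj A B)) β
  have hcomp : S.X₂.obj.map p1.op t' = S.X₂.obj.map p2.op t' := by
    have h : S.f.hom.app _ γ = S.X₂.obj.map p2.op (S.f.hom.app (op (affObj A B)) β) -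
        S.X₂.obj.map p1.op (S.f.hom.app (op (affObj A B)) β) := by
      rw [hγβ, map_sub, hfnat, hfnat]
    rw [hγ] at h
    simp only [t', map_sub]
    have h' : S.X₂.obj.map p2.op t - S.X₂.obj.map p1.op t =
      S.X₂.obj.map p2.op (S.f.hom.app (op (affObj A B)) β) -
        S.X₂.obj.map p1.op (S.f.hom.app (op (affObj A B)) β) := h
    rw [sub_eq_sub_iff_sub_eq_sub] at h'
    exact h'.symm
  -- glue
  have hcov : Sieve.generate (Presieve.singleton a) ∈ (X₀).smallEtaleTopology (EtCoh.top X₀) :=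
    EtSh.mem_topology fun x => by
      obtain ⟨y, hy⟩ := hsurj.surj x
      refine ⟨affObj A B, a, y, Sieve.le_generate _ _ _ (Presieve.singleton_self a), ?_⟩
      have hw : a.left ≫ (EtCoh.top X₀).hom = (affObj A B).hom := Over.w a.hom
      exact (congrArg (fun m : (affObj A B).left ⟶ X₀ => m y) hw).trans hy
  have hsheaf : ∀ F : EtCoh.Ab X₀, Presieve.IsSheafFor (F.obj ⋙ forget AddCommGrpCat.{u + 1})
      (Presieve.singleton a) := fun F =>
    (Presieve.isSheafFor_iff_generate _).2 ((isSheaf_iff_isSheaf_of_type _ _).1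
      ((Presheaf.isSheaf_iff_isSheaf_forget _ _ (forget AddCommGrpCat.{u + 1})).1 F.property) _ hcov)
  obtain ⟨σ, hσ, -⟩ := Presieve.isSheafFor_singleton.1 (hsheaf S.X₂) t' (fun {V} g₁ g₂ _ => by
    let l₁ : V.left ⟶ Spec (CommRingCat.of B) := g₁.left
    let l₂ : V.left ⟶ Spec (CommRingCat.of B) := g₂.left
    have hw : l₁ ≫ Spec.map (CommRingCat.ofHom (algebraMap A B)) =
        l₂ ≫ Spec.map (CommRingCat.ofHom (algebraMap A B)) :=
      (Over.w g₁.hom).trans (Over.w g₂.hom).symm
    let m : V ⟶ affObj A (B ⊗[A] B) := MorphismProperty.Over.homMk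
      (pullback.lift l₁ l₂ hw ≫ (pullbackSpecIso A B B).hom) (by
        change (pullback.lift l₁ l₂ hw ≫ (pullbackSpecIso A B B).hom) ≫
          Spec.map (CommRingCat.ofHom (algebraMap A (B ⊗[A] B))) = V.hom
        rw [show CommRingCat.ofHom (algebraMap A (B ⊗[A] B)) = CommRingCat.ofHom (algebraMap A B) ≫
            CommRingCat.ofHom (Algebra.TensorProduct.includeLeftRingHom) from rfl, Spec.map_comp]
        simp only [Category.assoc, pullbackSpecIso_hom_fst_assoc, pullback.lift_fst_assoc]
        exact Over.w g₁.hom) trivial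
    have h1 : m ≫ p1 = g₁ := MorphismProperty.Over.Hom.ext (by
      change (pullback.lift l₁ l₂ hw ≫ (pullbackSpecIso A B B).hom) ≫
          Spec.map (CommRingCat.ofHom Algebra.TensorProduct.includeLeftRingHom) = l₁
      rw [Category.assoc, pullbackSpecIso_hom_fst, pullback.lift_fst])
    have h2 : m ≫ p2 = g₂ := MorphismProperty.Over.Hom.ext (by
      change (pullback.lift l₁ l₂ hw ≫ (pullbackSpecIso A B B).hom) ≫
          Spec.map (CommRingCat.ofHom (Algebra.TensorProduct.includeRight (R := A) (A := B) (B := B)).toRingHom) = l₂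
      exact (Category.assoc _ _ _).trans ((congrArg (_ ≫ ·) (pullbackSpecIso_hom_snd A B B)).trans
        (pullback.lift_snd _ _ _)))
    change S.X₂.obj.map g₁.op t' = S.X₂.obj.map g₂.op t'
    rw [← h1, ← h2, ← map_map, ← map_map, hcomp])
  refine ⟨σ, ?_⟩
  have hu := (hsheaf S.X₃).isSeparatedFor
  refine hu.ext ?_
  rintro V g ⟨⟩
  change S.X₃.obj.map a.op (S.g.hom.app _ σ) = S.X₃.obj.map a.op s
  rw [← hgnat]
  have hσ' : S.X₂.obj.map a.op σ = t' := hσ
  rw [hσ', ← ht']
  simp only [t', map_sub]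
  rw [show S.g.hom.app _ (S.f.hom.app (op (affObj A B)) β) = 0 from
    ConcreteCategory.congr_hom (congrArg (fun m => m.hom.app (op (affObj A B))) S.zero) β, sub_zero]

theorem H1_Gm_subsingleton (A : Type u) [CommRing A] [Subsingleton (CommRing.Pic A)] :
    Subsingleton (EtCoh.H (Spec (CommRingCat.of A)) (EtCoh.Gm (Spec (CommRingCat.of A))) 1) := by
  refine subsingleton_of_forall_eq 0 fun x => ?_
  let F := EtCoh.Gm (Spec (CommRingCat.of A))
  let S : ShortComplex (EtCoh.Ab (Spec (CommRingCat.of A))) :=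
    ShortComplex.mk (Injective.ι F) (cokernel.π (Injective.ι F)) (cokernel.condition _)
  have hS : S.ShortExact := { exact := ShortComplex.exact_of_g_is_cokernel _ (cokernelIsCokernel _) }
  have : Injective S.X₂ := inferInstanceAs (Injective (Injective.under F))
  obtain ⟨y, hy⟩ := Ext.covariant_sequence_exact₁ _ hS x
    ((Ext.subsingleton_of_injective _ S.X₂ 0).elim _ _) rfl
  obtain ⟨c, rfl⟩ := (Ext.mk₀_bijective _ _).2 y
  let hT := EtSh.isTerminalTop (Spec (CommRingCat.of A))
  obtain ⟨σ, hσ⟩ := section_surjective hS (Iso.refl F) (Unr55.ExtCmp.homTop hT S.X₃ c)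
  have hc : ((Unr55.ExtCmp.homTop hT S.X₂).symm σ) ≫ S.g = c := by
    apply (Unr55.ExtCmp.homTop hT S.X₃).injective
    rw [Unr55.ExtCmp.homTop_comp, AddEquiv.apply_symm_apply, hσ]
  rw [← hy, ← hc, ← Ext.mk₀_comp_mk₀, Ext.comp_assoc_of_second_deg_zero, hS.comp_extClass, Ext.comp_zero]

end Groth.Agent.EtPic91
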