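import Groth.Prelude.Def_EtGm
import Mathlib.RingTheory.Etale.Basic
import Mathlib.RingTheory.RingHom.Etale
import Mathlib.AlgebraicGeometry.Morphisms.Etale

/-!
Affine objects of the small étale site of an affine scheme, and units on them.
-/

set_option autoImplicit false
set_option backward.isDefEq.respectTransparency.types false
set_option maxHeartbeats 400000

universe u

open CategoryTheory CategoryTheory.Limits AlgebraicGeometry Opposite

namespace Groth.Agent.EtPic91

variable (A : Type u) [CommRing A]

theorem etale_specMap (B : Type u) [CommRing B] [Algebra A B] [Algebra.Etale A B] :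
    Etale (Spec.map (CommRingCat.ofHom (algebraMap A B))) :=
  HasRingHomProperty.Spec_iff.2 (RingHom.etale_algebraMap.2 inferInstance)

/-- The affine étale scheme of an étale algebra. -/
noncomputable def affObj (B : Type u) [CommRing B] [Algebra A B] [Algebra.Etale A B] :
    (Spec (CommRingCat.of A)).Etale :=
  MorphismProperty.Over.mk ⊤ (Spec.map (CommRingCat.ofHom (algebraMap A B))) (etale_specMap A B)

variable {A} {B C : Type u} [CommRing B] [Algebra A B] [Algebra.Etale A B] [CommRing C] [Algebra A C]
  [Algebra.Etale A C]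

/-- The morphism of an algebra map. -/
noncomputable def affMap (h : B →ₐ[A] C) : affObj A C ⟶ affObj A B :=
  MorphismProperty.Over.homMk (Spec.map (CommRingCat.ofHom h.toRingHom)) (by
    change Spec.map (CommRingCat.ofHom h.toRingHom) ≫ Spec.map (CommRingCat.ofHom (algebraMap A B)) =
      Spec.map (CommRingCat.ofHom (algebraMap A C))
    rw [← Spec.map_comp, ← CommRingCat.ofHom_comp]
    exact congrArg (fun k => Spec.map (CommRingCat.ofHom k)) h.comp_algebraMap) trivial

theorem affMap_comp {D : Type u} [CommRing D] [Algebra A D] [Algebra.Etale A D] (h : B →ₐ[A] C) (k : C →ₐ[A] D) :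
    affMap k ≫ affMap h = affMap (k.comp h) := by
  refine MorphismProperty.Over.Hom.ext ?_
  change Spec.map (CommRingCat.ofHom k.toRingHom) ≫ Spec.map (CommRingCat.ofHom h.toRingHom) =
    Spec.map (CommRingCat.ofHom (k.comp h).toRingHom)
  rw [← Spec.map_comp, ← CommRingCat.ofHom_comp]
  rfl

/-- Units on an affine object as elements of the algebra. -/
noncomputable def unitVal (s : EtCoh.sect (EtCoh.Gm (Spec (CommRingCat.of A))) (affObj A B)) : B :=
  (Scheme.ΓSpecIso (CommRingCat.of B)).hom.hom
    ((Additive.toMul (ULift.down s) : (Γ(Spec (CommRingCat.of B), ⊤))ˣ) : Γ(Spec (CommRingCat.of B), ⊤))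

theorem isUnit_unitVal (s : EtCoh.sect (EtCoh.Gm (Spec (CommRingCat.of A))) (affObj A B)) : IsUnit (unitVal s) :=
  (Additive.toMul (ULift.down s) : (Γ(Spec (CommRingCat.of B), ⊤))ˣ).isUnit.map _

theorem unitVal_add (s t : EtCoh.sect (EtCoh.Gm (Spec (CommRingCat.of A))) (affObj A B)) :
    unitVal (s + t) = unitVal s * unitVal t :=
  map_mul (Scheme.ΓSpecIso (CommRingCat.of B)).hom.hom _ _

theorem unitVal_map (h : B →ₐ[A] C) (s : EtCoh.sect (EtCoh.Gm (Spec (CommRingCat.of A))) (affObj A B)) :
    unitVal ((EtCoh.Gm (Spec (CommRingCat.of A))).obj.map (affMap h).op s) = h (unitVal s) :=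
  congrArg (fun k : Γ(Spec (CommRingCat.of B), ⊤) ⟶ CommRingCat.of C => k.hom
    ((Additive.toMul (ULift.down s) : (Γ(Spec (CommRingCat.of B), ⊤))ˣ) : Γ(Spec (CommRingCat.of B), ⊤)))
    (Scheme.ΓSpecIso_naturality (CommRingCat.ofHom h.toRingHom))

theorem unitVal_injective :
    Function.Injective (unitVal : EtCoh.sect (EtCoh.Gm (Spec (CommRingCat.of A))) (affObj A B) → B) := by
  intro s t h
  refine ULift.ext _ _ (Additive.toMul.injective (Units.ext ?_))
  exact (Scheme.ΓSpecIso (CommRingCat.of B)).commRingCatIsoToRingEquiv.injective h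

theorem unitVal_surjective (b : Bˣ) :
    ∃ s : EtCoh.sect (EtCoh.Gm (Spec (CommRingCat.of A))) (affObj A B), unitVal s = b :=
  ⟨ULift.up (Additive.ofMul (Units.map (Scheme.ΓSpecIso (CommRingCat.of B)).inv.hom.toMonoidHom b)),
    Iso.inv_hom_id_apply (Scheme.ΓSpecIso (CommRingCat.of B)) (b : B)⟩

end Groth.Agent.EtPic91
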