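import Groth.Agent.RegUFD52.Basic
import Groth.Agent.CAlg6.TameKummer
import Mathlib.FieldTheory.IsSepClosed
import Mathlib.RingTheory.Localization.Away.Basic
import Mathlib.Algebra.Group.Int.TypeTags
import Mathlib.Data.ZMod.Basic

/-!
Units of the localisation of a regular strictly henselian local ring at a regular parameter.
-/

set_option autoImplicit false
set_option maxHeartbeats 400000

universe u

open IsLocalRing

namespace Groth.Agent.EtPic91

theorem prime_of_regular_parameter {A : Type u} [CommRing A] [IsRegularLocalRing A] {x : A}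
    (hx : x ∈ maximalIdeal A) (hx2 : x ∉ maximalIdeal A ^ 2) : Prime x := by
  have := Groth.Agent.CAlg1.isDomain_regular A
  have hx0 : x ≠ 0 := fun h => hx2 (h ▸ zero_mem _)
  haveI := (Groth.Agent.CAlg1.regular_quotient_singleton hx hx2).1
  haveI := Groth.Agent.CAlg1.isDomain_regular (A ⧸ Ideal.span {x})
  exact (Ideal.span_singleton_prime hx0).1 ((Ideal.Quotient.isDomain_iff_prime _).1 inferInstance)

theorem exists_pow_eq_sepClosed {A : Type u} [CommRing A] [HenselianLocalRing A]
    [IsSepClosed (ResidueField A)] {n : ℕ} (hn : IsUnit (n : A)) (v : Aˣ) : ∃ w : Aˣ, w ^ n = v := by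
  have hk : (n : ResidueField A) ≠ 0 := by
    rw [← map_natCast (residue A)]; exact (hn.map (residue A)).ne_zero
  have : NeZero (n : ResidueField A) := ⟨hk⟩
  have hn0 : n ≠ 0 := fun h => hk (by simp [h])
  obtain ⟨c, hc⟩ := IsSepClosed.exists_pow_nat_eq (residue A v) n
  obtain ⟨c, rfl⟩ := residue_surjective c
  obtain ⟨w, hw, -⟩ := CAlg6.TameKummer.exists_pow_eq hn hn0 v.isUnit ((residue_eq_zero_iff _).1 (by
    rw [map_sub, map_pow, hc, sub_self]))
  exact ⟨((isUnit_pow_iff hn0).1 (hw ▸ v.isUnit)).unit, Units.ext (by simp [hw])⟩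

/-- The comparison `(a, k) ↦ a xᵏ`. -/
noncomputable def unitsHom (A : Type u) [CommRing A] (x : A) :
    Additive Aˣ × ℤ →+ Additive (Localization.Away x)ˣ :=
  AddMonoidHom.coprod (Units.map (algebraMap A (Localization.Away x)).toMonoidHom).toAdditive
    (zmultiplesHom _ (Additive.ofMul (IsLocalization.Away.algebraMap_isUnit (S := Localization.Away x) x).unit))

theorem unitsHom_bijective {A : Type u} [CommRing A] [IsDomain A] {x : A} (hx : Prime x) :
    Function.Bijective (unitsHom A x) := by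
  let L := Localization.Away x
  have hS : Submonoid.powers x ≤ nonZeroDivisors A := powers_le_nonZeroDivisors_of_noZeroDivisors hx.ne_zero
  have hinj : Function.Injective (algebraMap A L) := IsLocalization.injective L hS
  let xu : Lˣ := (IsLocalization.Away.algebraMap_isUnit (S := L) x).unit
  have hxu : (xu : L) = algebraMap A L x := IsUnit.unit_spec _
  have hval : ∀ (a : Additive Aˣ) (k : ℤ), ((Additive.toMul (unitsHom A x (a, k)) : Lˣ) : L) =
      algebraMap A L (Additive.toMul a : Aˣ) * ((xu ^ k : Lˣ) : L) := fun a k => rfl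
  constructor
  · refine (injective_iff_map_eq_zero _).2 ?_
    rintro ⟨a, k⟩ h
    have h1 : algebraMap A L (Additive.toMul a : Aˣ) * ((xu ^ k : Lˣ) : L) = 1 := by
      rw [← hval, h]; rfl
    have hk : k = 0 := by
      by_contra hk
      obtain ⟨m, rfl | rfl⟩ := Int.eq_nat_or_neg k
      · rw [zpow_natCast, Units.val_pow_eq_pow_val, hxu, ← map_pow, ← map_mul] at h1
        have h2 : ((Additive.toMul a : Aˣ) : A) * x ^ m = 1 := hinj (h1.trans (map_one _).symm)
        exact hx.not_unit ((isUnit_pow_iff (by omega)).1 (IsUnit.of_mul_eq_one _ ((mul_comm _ _).trans h2)))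
      · rw [zpow_neg, zpow_natCast] at h1
        have h1' : algebraMap A L (Additive.toMul a : Aˣ) = ((xu ^ m : Lˣ) : L) := by
          rw [← Units.mul_inv_eq_one]; exact h1
        rw [Units.val_pow_eq_pow_val, hxu, ← map_pow] at h1'
        have h2 := hinj h1'
        exact hx.not_unit ((isUnit_pow_iff (by omega)).1 (h2 ▸ Units.isUnit _))
    subst hk
    rw [zpow_zero, Units.val_one, mul_one] at h1
    have h2 : ((Additive.toMul a : Aˣ) : A) = 1 := hinj (h1.trans (map_one _).symm)
    exact Prod.ext (Additive.toMul.injective (Units.ext h2)) rfl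
  · intro w
    obtain ⟨⟨a, s⟩, ha⟩ := IsLocalization.surj (Submonoid.powers x) ((Additive.toMul w : Lˣ) : L)
    obtain ⟨⟨b, t⟩, hb⟩ := IsLocalization.surj (Submonoid.powers x) (((Additive.toMul w)⁻¹ : Lˣ) : L)
    obtain ⟨m, hm⟩ := s.2
    obtain ⟨j, hj⟩ := t.2
    dsimp only at ha hb hm hj
    rw [← hm, map_pow, ← hxu] at ha
    rw [← hj, map_pow, ← hxu] at hb
    have hab : a * b = x ^ (m + j) := by
      apply hinj
      rw [map_mul, map_pow, ← hxu, ← ha, ← hb, pow_add]
      calc ((Additive.toMul w : Lˣ) : L) * (xu : L) ^ m * ((((Additive.toMul w)⁻¹ : Lˣ) : L) * (xu : L) ^ j)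
          = (((Additive.toMul w : Lˣ) : L) * (((Additive.toMul w)⁻¹ : Lˣ) : L)) * ((xu : L) ^ m * (xu : L) ^ j) := by ring
        _ = (xu : L) ^ m * (xu : L) ^ j := by rw [Units.mul_inv, one_mul]
    obtain ⟨i, -, hi⟩ := (dvd_prime_pow hx (m + j)).1 (Dvd.intro b hab)
    obtain ⟨v, hv⟩ := hi.symm
    refine ⟨(Additive.ofMul v, (i : ℤ) - m), Additive.toMul.injective (Units.ext ?_)⟩
    rw [hval, toMul_ofMul, zpow_sub, zpow_natCast, zpow_natCast, Units.val_mul, ← mul_assoc]
    rw [Units.mul_inv_eq_iff_eq_mul]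
    rw [Units.val_pow_eq_pow_val, Units.val_pow_eq_pow_val, ha, hxu, ← map_pow, ← map_mul, ← hv, mul_comm]

theorem exists_units_mod (A : Type u) [CommRing A] [IsDomain A] [HenselianLocalRing A]
    [IsSepClosed (ResidueField A)] {x : A} (hx : Prime x) {n : ℕ} (hn : IsUnit (n : A)) :
    ∃ π : Additive (Localization.Away x)ˣ →+ ZMod n,
      Function.Surjective π ∧ ∀ v, π v = 0 ↔ ∃ w, n • w = v := by
  let e := AddEquiv.ofBijective (unitsHom A x) (unitsHom_bijective hx)
  refine ⟨((Int.castAddHom (ZMod n)).comp (AddMonoidHom.snd (Additive Aˣ) ℤ)).comp e.symm.toAddMonoidHom,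
    (ZMod.intCast_surjective.comp Prod.snd_surjective).comp e.symm.surjective, fun v => ?_⟩
  obtain ⟨⟨a, k⟩, rfl⟩ := e.surjective v
  change ((e.symm (e (a, k))).2 : ZMod n) = 0 ↔ _
  rw [e.symm_apply_apply]
  constructor
  · intro h
    obtain ⟨l, rfl⟩ := (ZMod.intCast_zmod_eq_zero_iff_dvd k n).1 h
    obtain ⟨w, hw⟩ := exists_pow_eq_sepClosed hn (Additive.toMul a)
    refine ⟨e (Additive.ofMul w, l), ?_⟩
    rw [← map_nsmul]
    refine congrArg e (Prod.ext ?_ ?_)
    · change Additive.ofMul (w ^ n) = a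
      rw [hw]; rfl
    · change n • l = (n : ℤ) * l
      rw [nsmul_eq_mul]
  · rintro ⟨w, hw⟩
    obtain ⟨⟨b, l⟩, rfl⟩ := e.surjective w
    rw [← map_nsmul] at hw
    have := congrArg Prod.snd (e.injective hw)
    rw [← this]
    change ((n • l : ℤ) : ZMod n) = 0
    rw [nsmul_eq_mul, Int.cast_mul]
    simp

end Groth.Agent.EtPic91
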