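import Groth.Agent.EtPic91.ZarUnits
import Groth.Agent.Unr55.Et.CechInjU
import Mathlib.GroupTheory.FreeAbelianGroup

/-!
A Čech 1-cocycle of a Zariski cover with values in an injective presheaf is a coboundary.
-/

set_option autoImplicit false
set_option backward.isDefEq.respectTransparency.types false
set_option maxHeartbeats 400000

universe u

open CategoryTheory CategoryTheory.Limits AlgebraicGeometry Opposite

namespace Groth.Agent.EtPic91

variable {X : Scheme.{u}} {ι : Type u} (U : ι → X.Opens)

/-- The opens of the cover lying under an object. -/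
abbrev Under' (V : X.Etale) : Type (u + 1) := ULift.{u + 1} {i : ι // Set.range V.hom ⊆ (U i : Set X)}

variable {U} in
/-- Restriction of indices. -/
def underMap {V W : X.Etale} (g : V ⟶ W) (p : Under' U W) : Under' U V :=
  ⟨⟨p.down.1, (range_subset_of_hom g).trans p.down.2⟩⟩

/-- The free presheaf on the cover. -/
noncomputable def freePre : X.Etaleᵒᵖ ⥤ AddCommGrpCat.{u + 1} where
  obj V := AddCommGrpCat.of (FreeAbelianGroup (Under' U V.unop))
  map g := AddCommGrpCat.ofHom (FreeAbelianGroup.map (underMap g.unop))
  map_id V := AddCommGrpCat.hom_ext (AddMonoidHom.ext fun x => FreeAbelianGroup.map_id_apply x)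
  map_comp g h := AddCommGrpCat.hom_ext (AddMonoidHom.ext fun x =>
    FreeAbelianGroup.map_comp_apply (f := underMap g.unop) (g := underMap h.unop) x)

/-- The augmentation. -/
noncomputable def aug (V : X.Etale) : FreeAbelianGroup (Under' U V) →+ ℤ :=
  FreeAbelianGroup.lift fun _ => 1

theorem aug_map {V W : X.Etale} (g : V ⟶ W) (x : FreeAbelianGroup (Under' U W)) :
    aug U V (FreeAbelianGroup.map (underMap g) x) = aug U W x :=
  DFunLike.congr_fun (f := (aug U V).comp (FreeAbelianGroup.map (underMap g))) (g := aug U W)
    (FreeAbelianGroup.lift_ext _ _ fun p => by simp [aug]) x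

/-- The kernel of the augmentation. -/
noncomputable def kerPre : X.Etaleᵒᵖ ⥤ AddCommGrpCat.{u + 1} where
  obj V := AddCommGrpCat.of (aug U V.unop).ker
  map {V W} g := AddCommGrpCat.ofHom
    (((FreeAbelianGroup.map (underMap g.unop)).comp (aug U V.unop).ker.subtype).codRestrict _ fun x =>
      (aug_map U g.unop x.1).trans x.2)
  map_id V := AddCommGrpCat.hom_ext (AddMonoidHom.ext fun x => Subtype.ext
    (FreeAbelianGroup.map_id_apply (Subtype.val x)))
  map_comp g h := AddCommGrpCat.hom_ext (AddMonoidHom.ext fun x => Subtype.ext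
    (FreeAbelianGroup.map_comp_apply (f := underMap g.unop) (g := underMap h.unop) (Subtype.val x)))

/-- The inclusion of the kernel. -/
noncomputable def kerι : kerPre U ⟶ freePre U where
  app V := AddCommGrpCat.ofHom (aug U V.unop).ker.subtype
  naturality _ _ _ := rfl

instance : Mono (kerι U) := by
  have : ∀ V, Mono ((kerι U).app V) := fun V =>
    (AddCommGrpCat.mono_iff_injective _).2 Subtype.val_injective
  exact NatTrans.mono_of_mono_app _

theorem exists_cochain (P : X.Etaleᵒᵖ ⥤ AddCommGrpCat.{u + 1}) [Injective P]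
    (c : ∀ (V : X.Etale) (i j : ι), Set.range V.hom ⊆ (U i : Set X) → Set.range V.hom ⊆ (U j : Set X) →
      P.obj (op V))
    (hcmap : ∀ {V W : X.Etale} (g : V ⟶ W) (i j : ι) hi hj,
      P.map g.op (c W i j hi hj) = c V i j ((range_subset_of_hom g).trans hi) ((range_subset_of_hom g).trans hj))
    (hc : ∀ (V : X.Etale) (i j k : ι) hi hj hk, c V i j hi hj + c V j k hj hk = c V i k hi hk) :
    ∃ t : ∀ i, P.obj (op (oObj (U i))), ∀ i j,
      P.map (oMap (inf_le_right : U i ⊓ U j ≤ U j)).op (t j) -
        P.map (oMap (inf_le_left : U i ⊓ U j ≤ U i)).op (t i) =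
      c (oObj (U i ⊓ U j)) i j (oObj_subset inf_le_left) (oObj_subset inf_le_right) := by
  let base : ∀ (V : X.Etale), Under' U V → Under' U V := fun V p => Classical.choice (show Nonempty (Under' U V) from ⟨p⟩)
  let f : ∀ (V : X.Etale), Under' U V → P.obj (op V) := fun V p =>
    c V (base V p).down.1 p.down.1 (base V p).down.2 p.down.2
  let L : ∀ (V : X.Etale), FreeAbelianGroup (Under' U V) →+ P.obj (op V) := fun V => FreeAbelianGroup.lift (f V)
  have hnat : ∀ {V W : X.Etale} (g : V ⟶ W) (x : FreeAbelianGroup (Under' U W)), aug U W x = 0 →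
      L V (FreeAbelianGroup.map (underMap g) x) = P.map g.op (L W x) := by
    intro V W g x hx
    by_cases hW : Nonempty (Under' U W)
    · let b := Classical.choice hW
      let b' := Classical.choice (show Nonempty (Under' U V) from ⟨underMap g b⟩)
      let K : P.obj (op V) := c V b'.down.1 b.down.1 b'.down.2 ((range_subset_of_hom g).trans b.down.2)
      have key : ∀ y, L V (FreeAbelianGroup.map (underMap g) y) = P.map g.op (L W y) + aug U W y • K := by
        intro y
        refine DFunLike.congr_fun (f := (L V).comp (FreeAbelianGroup.map (underMap g)))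
          (g := ((P.map g.op).hom.comp (L W)) + ((zmultiplesHom _ K).comp (aug U W)))
          (FreeAbelianGroup.lift_ext _ _ fun p => ?_) y
        simp only [L, aug, AddMonoidHom.comp_apply, AddMonoidHom.add_apply, FreeAbelianGroup.map_of_apply,
          FreeAbelianGroup.lift_apply_of, zmultiplesHom_apply, one_smul]
        change f V (underMap g p) = P.map g.op (f W p) + K
        simp only [f]
        rw [hcmap, add_comm]
        have hb : base W p = b := rfl
        have hb' : base V (underMap g p) = b' := rfl
        exact (hc V b'.down.1 b.down.1 p.down.1 _ _ _).symm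
      rw [key, hx, zero_smul, add_zero]
    · have : x = 0 := by
        induction x using FreeAbelianGroup.induction_on with
        | zero => rfl
        | of p => exact absurd ⟨p⟩ hW
        | neg p h => exact absurd ⟨p⟩ hW
        | add a b ha hb =>
          have : IsEmpty (Under' U W) := not_nonempty_iff.1 hW
          exact Subsingleton.elim _ _
      rw [this, map_zero, map_zero, map_zero, map_zero]
  let φ : kerPre U ⟶ P :=
    { app := fun V => AddCommGrpCat.ofHom ((L V.unop).comp (aug U V.unop).ker.subtype)
      naturality := fun V W g => by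
        ext x
        exact hnat g.unop x.1 x.2 }
  let ψ : freePre U ⟶ P := Injective.factorThru φ (kerι U)
  let self : ∀ i, Under' U (oObj (U i)) := fun i => ⟨⟨i, (range_oObj (U i)).subset⟩⟩
  refine ⟨fun i => ψ.app (op (oObj (U i))) (FreeAbelianGroup.of (self i)), fun i j => ?_⟩
  let pi : Under' U (oObj (U i ⊓ U j)) := ⟨⟨i, oObj_subset inf_le_left⟩⟩
  let pj : Under' U (oObj (U i ⊓ U j)) := ⟨⟨j, oObj_subset inf_le_right⟩⟩
  let x : FreeAbelianGroup (Under' U (oObj (U i ⊓ U j))) := FreeAbelianGroup.of pj - FreeAbelianGroup.of pi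
  have hx : aug U _ x = 0 := by simp [x, aug]
  rw [← NatTrans.naturality_apply ψ, ← NatTrans.naturality_apply ψ, ← map_sub]
  change ψ.app _ x = _
  have e : ψ.app (op (oObj (U i ⊓ U j))) x = φ.app (op (oObj (U i ⊓ U j))) ⟨x, hx⟩ :=
    ConcreteCategory.congr_hom (NatTrans.congr_app (Injective.comp_factorThru φ (kerι U)) _) (⟨x, hx⟩ : (aug U _).ker)
  refine e.trans ?_
  change L _ x = _
  simp only [x, L, map_sub, FreeAbelianGroup.lift_apply_of, f]
  rw [sub_eq_iff_eq_add']
  have hb : base _ pj = base _ pi := rfl
  exact (hc _ _ _ _ _ _ _).symm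

end Groth.Agent.EtPic91
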