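import Groth.Agent.EtPic91.CocycleSplit
import Groth.Agent.Desc59.Pic.Cocycle
import Groth.Agent.Curves2.Glue.Descend
import Groth.Agent.Mero90.Frames
import Groth.Agent.Unr55.Et.ExtCompareClass

/-!
`H¹_et(X, G_m) = 0` iff every invertible module is trivial.
-/

set_option autoImplicit false
set_option backward.isDefEq.respectTransparency.types false
set_option maxHeartbeats 400000

universe u

open CategoryTheory CategoryTheory.Limits AlgebraicGeometry Opposite CategoryTheory.Abelian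
open Groth.Agent.Var76.LineBundle

namespace Groth.Agent.EtPic91

open Groth.Agent.Unr55

variable {X : Scheme.{u}}

/-- Restriction of units. -/
noncomputable abbrev rU {A B : X.Opens} (h : B ≤ A) (η : (Γ(X, A))ˣ) : (Γ(X, B))ˣ :=
  Units.map (X.presheaf.map (homOfLE h).op).hom.toMonoidHom η

theorem isFrame_unit (U : X.Opens) (γ : (Γ(X, U))ˣ) :
    IsFrame (Coh.structureModule X) U (γ : Γ(X, U)) := by
  intro V hV
  have hu : IsUnit (X.presheaf.map (homOfLE hV).op (γ : Γ(X, U))) := γ.isUnit.map _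
  constructor
  · intro a b hab
    exact hu.mul_left_injective hab
  · intro m
    obtain ⟨w, hw⟩ := hu
    refine ⟨(show Γ(X, V) from m) * (w⁻¹ : (Γ(X, V))ˣ), ?_⟩
    change (show Γ(X, V) from m) * (w⁻¹ : (Γ(X, V))ˣ) * X.presheaf.map (homOfLE hV).op (γ : Γ(X, U)) = m
    rw [← hw, Units.inv_mul_cancel_right]

theorem isUnit_of_frame_unit {U : X.Opens} {e : Γ(Coh.structureModule X, U)}
    (he : IsFrame (Coh.structureModule X) U e) : IsUnit (show Γ(X, U) from e) := by
  obtain ⟨a, ha⟩ := (he U le_rfl).2 (1 : Γ(X, U))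
  refine IsUnit.of_mul_eq_one_right a ?_
  have : res (Coh.structureModule X) (le_refl U) e = e := by simp [res]
  rw [this] at ha
  exact ha

theorem isFrame_of_iso {L M : X.Modules} (φ : L ≅ M) {U : X.Opens} {e : Γ(L, U)} (he : IsFrame L U e) :
    IsFrame M U (φ.hom.app U e) := by
  have hb : ∀ V : X.Opens, Function.Bijective (φ.hom.app V) := fun V => by
    refine Function.bijective_iff_has_inverse.2 ⟨φ.inv.app V, fun t => ?_, fun t => ?_⟩
    · exact congrArg (fun f : L ⟶ L => f.app V t) φ.hom_inv_id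
    · exact congrArg (fun f : M ⟶ M => f.app V t) φ.inv_hom_id
  intro V hV
  have h := (hb V).comp (he V hV)
  convert h using 1
  funext a
  change a • res M hV (φ.hom.app U e) = φ.hom.app V (a • res L hV e)
  rw [Scheme.Modules.Hom.app_smul, Mero90.app_res]

/-- If invertible modules are trivial, sections of a quotient by `G_m` lift. -/
theorem exists_lift_top (hpic : ∀ L : X.Modules, PicF.IsInvertible L → Nonempty (L ≅ Coh.structureModule X))
    {S : ShortComplex (EtCoh.Ab X)} (hS : S.ShortExact) (e : S.X₁ ≅ EtCoh.Gm X)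
    (s : EtCoh.sect S.X₃ (EtCoh.top X)) :
    ∃ σ : EtCoh.sect S.X₂ (EtCoh.top X), S.g.hom.app (op (EtCoh.top X)) σ = s := by
  let hT := EtSh.isTerminalTop X
  choose U W σ₀ hmem hUW hW hσ₀ using exists_lift_open hS e s
  have hgnat : ∀ {A B : X.Etale} (g : B ⟶ A) (x : EtCoh.sect S.X₂ A),
      S.g.hom.app (op B) (S.X₂.obj.map g.op x) = S.X₃.obj.map g.op (S.g.hom.app (op A) x) :=
    fun g x => NatTrans.naturality_apply S.g.hom g.op x
  let k : ∀ x, oObj (U x) ⟶ W x := fun x =>
    have := hW x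
    MorphismProperty.Over.homMk (IsOpenImmersion.lift (W x).hom (U x).ι ((U x).range_ι.trans_subset (hUW x)))
      (IsOpenImmersion.lift_fac (W x).hom (U x).ι ((U x).range_ι.trans_subset (hUW x))) trivial
  let t : ∀ x, EtCoh.sect S.X₂ (oObj (U x)) := fun x => S.X₂.obj.map (k x).op (σ₀ x)
  have hgt : ∀ x, S.g.hom.app (op (oObj (U x))) (t x) = S.X₃.obj.map (hT.from _).op s := fun x => by
    rw [hgnat, hσ₀, sect_map_map]
    exact congrArg (fun m => S.X₃.obj.map (Quiver.Hom.op m) s) (hT.hom_ext _ _)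
  let tl := fun (x : X) {V : X.Opens} (h : V ≤ U x) => S.X₂.obj.map (oMap h).op (t x)
  have hex : ∀ x y : X, ∃ η : (Γ(X, U x ⊓ U y))ˣ,
      lam e (oObj (U x ⊓ U y)) _ (range_oObj _).subset (Additive.ofMul η) =
        tl y inf_le_right - tl x inf_le_left := fun x y => by
    refine exists_lam_eq e hS _ _ ?_
    simp only [tl]
    rw [map_sub, hgnat (oMap inf_le_right) (t y), hgnat (oMap inf_le_left) (t x), hgt, hgt, sect_map_map, sect_map_map]
    rw [hT.hom_ext (oMap inf_le_right ≫ hT.from _) (oMap inf_le_left ≫ hT.from _), sub_self]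
  choose η hη using hex
  have htl : ∀ (x : X) {A B : X.Opens} (h : A ≤ U x) (h' : B ≤ A),
      S.X₂.obj.map (oMap h').op (tl x h) = tl x (h'.trans h) := fun x {A B} h h' => by
    simp only [tl]
    rw [sect_map_map]
    exact congrArg (fun m => S.X₂.obj.map (Quiver.Hom.op m) (t x)) (oObj_hom_ext _ _)
  have hη' : ∀ (x y : X) (T : X.Opens) (h : T ≤ U x ⊓ U y),
      lam e (oObj T) T (range_oObj T).subset (Additive.ofMul (rU h (η x y))) =
        tl y (h.trans inf_le_right) - tl x (h.trans inf_le_left) := fun x y T h => by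
    rw [lam_res e h]
    have h1 := congrArg (S.X₂.obj.map (oMap h).op) (hη x y)
    rw [lam_map, map_sub, htl, htl] at h1
    exact h1
  have hcoc : ∀ x y z : X,
      Desc59.Pic.Cocycle.rf (inf_le_inf_right (U z) inf_le_left : U x ⊓ U y ⊓ U z ≤ U x ⊓ U z) (η x z : Γ(X, U x ⊓ U z)) =
        Desc59.Pic.Cocycle.rf (inf_le_left : U x ⊓ U y ⊓ U z ≤ U x ⊓ U y) (η x y : Γ(X, U x ⊓ U y)) *
          Desc59.Pic.Cocycle.rf (inf_le_inf_right (U z) inf_le_right : U x ⊓ U y ⊓ U z ≤ U y ⊓ U z) (η y z : Γ(X, U y ⊓ U z)) := by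
    intro x y z
    let T := U x ⊓ U y ⊓ U z
    have h : rU (inf_le_inf_right (U z) inf_le_left : T ≤ U x ⊓ U z) (η x z) =
        rU (inf_le_left : T ≤ U x ⊓ U y) (η x y) * rU (inf_le_inf_right (U z) inf_le_right : T ≤ U y ⊓ U z) (η y z) := by
      apply Additive.ofMul.injective
      apply lam_injective e hS T
      rw [ofMul_mul, map_add, hη', hη', hη']
      abel
    exact congrArg Units.val h
  obtain ⟨L, fr, hL, hfr, htr⟩ := Desc59.Pic.Cocycle.exists_invertible U η
    (top_le_iff.1 fun x _ => TopologicalSpace.Opens.mem_iSup.2 ⟨x, hmem x⟩) hcoc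
  obtain ⟨φ⟩ := hpic L hL
  have hu : ∀ x, IsUnit (show Γ(X, U x) from φ.hom.app (U x) (fr x)) := fun x =>
    isUnit_of_frame_unit (isFrame_of_iso φ (hfr x))
  let h : ∀ x, (Γ(X, U x))ˣ := fun x => (hu x).unit
  have hh : ∀ x y, rU (inf_le_left : U x ⊓ U y ≤ U x) (h x) = η x y * rU (inf_le_right : U x ⊓ U y ≤ U y) (h y) := by
    intro x y
    apply Units.ext
    have h1 := congrArg (φ.hom.app (U x ⊓ U y)) (htr x y)
    rw [Scheme.Modules.Hom.app_smul, Mero90.app_res, Mero90.app_res] at h1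
    exact h1
  let t' : ∀ x, EtCoh.sect S.X₂ (oObj (U x)) := fun x =>
    t x + lam e (oObj (U x)) (U x) (range_oObj _).subset (Additive.ofMul (h x))
  obtain ⟨σ, hσ, -⟩ := exists_glue S.X₂ U (fun x => ⟨x, hmem x⟩) t' (fun x y => by
    simp only [t']
    rw [map_add, map_add, lam_map, lam_map]
    have e1 : tl y (inf_le_right : U x ⊓ U y ≤ U y) = tl x inf_le_left +
        lam e (oObj (U x ⊓ U y)) _ (range_oObj _).subset (Additive.ofMul (η x y)) := by
      rw [hη]; abel
    change tl x inf_le_left + _ = tl y inf_le_right + _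
    rw [e1, ← lam_res e (inf_le_left : U x ⊓ U y ≤ U x) (range_oObj _).subset,
      ← lam_res e (inf_le_right : U x ⊓ U y ≤ U y) (range_oObj _).subset,
      show Units.map (X.presheaf.map (homOfLE (inf_le_left : U x ⊓ U y ≤ U x)).op).hom.toMonoidHom (h x) = _ from hh x y,
      ofMul_mul, map_add, add_assoc])
  refine ⟨σ, ?_⟩
  obtain ⟨s', -, hs'⟩ := exists_glue S.X₃ U (fun x => ⟨x, hmem x⟩) (fun x => S.X₃.obj.map (hT.from _).op s)
    (fun x y => by
      rw [sect_map_map, sect_map_map]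
      exact congrArg (fun m => S.X₃.obj.map (Quiver.Hom.op m) s) (hT.hom_ext _ _))
  refine (hs' _ fun x => ?_).trans (hs' s fun x => rfl).symm
  rw [← hgnat, hσ]
  simp only [t', map_add]
  rw [hgt, app_g_lam e, add_zero]

theorem subsingleton_of_pic_trivial
    (hpic : ∀ L : X.Modules, PicF.IsInvertible L → Nonempty (L ≅ Coh.structureModule X)) :
    Subsingleton (EtCoh.H X (EtCoh.Gm X) 1) := by
  refine subsingleton_of_forall_eq 0 fun x => ?_
  let F := EtCoh.Gm X
  let S : ShortComplex (EtCoh.Ab X) :=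
    ShortComplex.mk (Injective.ι F) (cokernel.π (Injective.ι F)) (cokernel.condition _)
  have hS : S.ShortExact := { exact := ShortComplex.exact_of_g_is_cokernel _ (cokernelIsCokernel _) }
  have : Injective S.X₂ := inferInstanceAs (Injective (Injective.under F))
  obtain ⟨y, hy⟩ := Ext.covariant_sequence_exact₁ _ hS x
    ((Ext.subsingleton_of_injective _ S.X₂ 0).elim _ _) rfl
  obtain ⟨c, rfl⟩ := (Ext.mk₀_bijective _ _).2 y
  let hT := EtSh.isTerminalTop X
  obtain ⟨σ, hσ⟩ := exists_lift_top hpic hS (Iso.refl F) (Unr55.ExtCmp.homTop hT S.X₃ c)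
  have hc : ((Unr55.ExtCmp.homTop hT S.X₂).symm σ) ≫ S.g = c := by
    apply (Unr55.ExtCmp.homTop hT S.X₃).injective
    rw [Unr55.ExtCmp.homTop_comp, AddEquiv.apply_symm_apply, hσ]
  rw [← hy, ← hc, ← Ext.mk₀_comp_mk₀, Ext.comp_assoc_of_second_deg_zero, hS.comp_extClass, Ext.comp_zero]

theorem pic_trivial_of_subsingleton (hH : Subsingleton (EtCoh.H X (EtCoh.Gm X) 1))
    (L : X.Modules) (hL : PicF.IsInvertible L) : Nonempty (L ≅ Coh.structureModule X) := by
  choose U hmem a ha using Mero90.exists_frame' hL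
  -- transition functions
  have hex : ∀ x y : X, ∃ η : (Γ(X, U x ⊓ U y))ˣ,
      (η : Γ(X, U x ⊓ U y)) • res L inf_le_right (a y) = res L (inf_le_left : U x ⊓ U y ≤ U x) (a x) := fun x y => by
    obtain ⟨c, hc⟩ := (ha y _ inf_le_right).2 (res L (inf_le_left : U x ⊓ U y ≤ U x) (a x))
    obtain ⟨d, hd⟩ := (ha x _ inf_le_left).2 (res L (inf_le_right : U x ⊓ U y ≤ U y) (a y))
    dsimp only at hc hd
    have h1 : c * d = 1 := (ha x _ inf_le_left).1 (by
      dsimp only
      rw [mul_smul, hd, hc, one_smul])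
    exact ⟨⟨c, d, h1, (mul_comm d c).trans h1⟩, hc⟩
  choose η hη using hex
  have hη' : ∀ (x y : X) (T : X.Opens) (h : T ≤ U x ⊓ U y),
      (rU h (η x y) : Γ(X, T)) • res L (h.trans inf_le_right) (a y) = res L (h.trans inf_le_left) (a x) := by
    intro x y T h
    have h1 := congrArg (res L h) (hη x y)
    rw [res_smul, res_res, res_res] at h1
    exact h1
  have hcoc : ∀ (x y z : X) (T : X.Opens) (hx : T ≤ U x) (hy : T ≤ U y) (hz : T ≤ U z),
      rU (le_inf hx hz) (η x z) = rU (le_inf hx hy) (η x y) * rU (le_inf hy hz) (η y z) := by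
    intro x y z T hx hy hz
    refine Units.ext ((ha z T hz).1 ?_)
    dsimp only
    rw [Units.val_mul, mul_smul]
    exact (hη' x z T _).trans ((hη' x y T (le_inf hx hy)).symm.trans
      (congrArg (_ • ·) (hη' y z T (le_inf hy hz)).symm))
  let F := EtCoh.Gm X
  let S : ShortComplex (EtCoh.Ab X) :=
    ShortComplex.mk (Injective.ι F) (cokernel.π (Injective.ι F)) (cokernel.condition _)
  have hS : S.ShortExact := { exact := ShortComplex.exact_of_g_is_cokernel _ (cokernelIsCokernel _) }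
  have : Injective S.X₂ := inferInstanceAs (Injective (Injective.under F))
  have : Injective S.X₂.obj :=
    have : (presheafToSheaf X.smallEtaleTopology AddCommGrpCat.{u + 1}).PreservesMonomorphisms := inferInstance
    Injective.injective_of_adjoint (sheafificationAdjunction X.smallEtaleTopology AddCommGrpCat.{u + 1}) S.X₂
  let e : S.X₁ ≅ EtCoh.Gm X := Iso.refl F
  let c : ∀ (V : X.Etale) (i j : X), Set.range V.hom ⊆ (U i : Set X) → Set.range V.hom ⊆ (U j : Set X) →
      S.X₂.obj.obj (op V) := fun V i j hi hj =>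
    lam e V (U i ⊓ U j) (fun z hz => ⟨hi hz, hj hz⟩) (Additive.ofMul (η i j))
  obtain ⟨t, ht⟩ := exists_cochain U S.X₂.obj c
    (fun g i j hi hj => lam_map e g _ _) (fun V i j l hi hj hl => by
      have h : Set.range V.hom ⊆ ((U i ⊓ U j ⊓ U l : X.Opens) : Set X) := fun z hz => ⟨⟨hi hz, hj hz⟩, hl hz⟩
      simp only [c]
      rw [← lam_res e (le_inf (inf_le_left.trans inf_le_left) (inf_le_left.trans inf_le_right) :
          U i ⊓ U j ⊓ U l ≤ U i ⊓ U j) h,
        ← lam_res e (le_inf (inf_le_left.trans inf_le_right) inf_le_right : U i ⊓ U j ⊓ U l ≤ U j ⊓ U l) h,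
        ← lam_res e (le_inf (inf_le_left.trans inf_le_left) inf_le_right : U i ⊓ U j ⊓ U l ≤ U i ⊓ U l) h,
        ← map_add, ← ofMul_mul]
      exact congrArg (fun u => lam e V _ h (Additive.ofMul u)) (hcoc i j l (U i ⊓ U j ⊓ U l) (inf_le_left.trans inf_le_left)
        (inf_le_left.trans inf_le_right) inf_le_right).symm)
  let hT := EtSh.isTerminalTop X
  have hgnat : ∀ {A B : X.Etale} (g : B ⟶ A) (x : EtCoh.sect S.X₂ A),
      S.g.hom.app (op B) (S.X₂.obj.map g.op x) = S.X₃.obj.map g.op (S.g.hom.app (op A) x) :=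
    fun g x => NatTrans.naturality_apply S.g.hom g.op x
  obtain ⟨s, hs, -⟩ := exists_glue S.X₃ U (fun x => ⟨x, hmem x⟩) (fun x => S.g.hom.app _ (t x)) (fun x y => by
    rw [← hgnat, ← hgnat]
    refine (sub_eq_zero.1 ?_).symm
    rw [← map_sub, ht]
    exact app_g_lam e _ _)
  let c0 := (Unr55.ExtCmp.homTop hT S.X₃).symm s
  obtain ⟨b, hb⟩ := Ext.covariant_sequence_exact₃ _ hS (Ext.mk₀ c0) rfl (hH.elim _ _)
  obtain ⟨b, rfl⟩ := (Ext.mk₀_bijective _ _).2 b
  rw [Ext.mk₀_comp_mk₀] at hb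
  have hb' : b ≫ S.g = c0 := (Ext.mk₀_bijective _ _).1 hb
  let σ := Unr55.ExtCmp.homTop hT S.X₂ b
  have hσ : S.g.hom.app (op (EtCoh.top X)) σ = s := by
    rw [← Unr55.ExtCmp.homTop_comp, hb', AddEquiv.apply_symm_apply]
  have hexγ : ∀ x, ∃ γ : (Γ(X, U x))ˣ,
      lam e (oObj (U x)) _ (range_oObj _).subset (Additive.ofMul γ) = t x - S.X₂.obj.map (hT.from _).op σ := fun x => by
    refine exists_lam_eq e hS _ _ ?_
    rw [map_sub, hgnat, hσ, hs, sub_self]
  choose γ hγ using hexγ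
  have hγη : ∀ x y, η x y * rU (inf_le_left : U x ⊓ U y ≤ U x) (γ x) = rU (inf_le_right : U x ⊓ U y ≤ U y) (γ y) := by
    intro x y
    apply Additive.ofMul.injective
    apply lam_injective e hS
    rw [ofMul_mul, map_add, lam_res e, lam_res e]
    have h1 := congrArg (S.X₂.obj.map (oMap (inf_le_left : U x ⊓ U y ≤ U x)).op) (hγ x)
    have h2 := congrArg (S.X₂.obj.map (oMap (inf_le_right : U x ⊓ U y ≤ U y)).op) (hγ y)
    rw [lam_map, map_sub, sect_map_map] at h1 h2
    rw [h1, h2, hT.hom_ext (oMap (inf_le_left : U x ⊓ U y ≤ U x) ≫ hT.from _) (hT.from _),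
      hT.hom_ext (oMap (inf_le_right : U x ⊓ U y ≤ U y) ≫ hT.from _) (hT.from _)]
    have h3 := ht x y
    rw [show lam e (oObj (U x ⊓ U y)) (U x ⊓ U y) (range_oObj _).subset (Additive.ofMul (η x y)) =
      c (oObj (U x ⊓ U y)) x y (oObj_subset inf_le_left) (oObj_subset inf_le_right) from rfl, ← h3]
    abel
  refine Curves2.Glue.nonempty_iso_of_frames U (fun x => ⟨x, hmem x⟩) a
    (fun x => (((γ x)⁻¹ : (Γ(X, U x))ˣ) : Γ(X, U x))) ha (fun x => isFrame_unit (U x) (γ x)⁻¹) fun x y d hd => ?_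
  have hd' : d = (η x y : Γ(X, U x ⊓ U y)) := (ha y _ inf_le_right).1 (hd.trans (hη x y).symm)
  subst hd'
  have h := hγη x y
  have h' : η x y * rU (inf_le_right : U x ⊓ U y ≤ U y) ((γ y)⁻¹) = rU (inf_le_left : U x ⊓ U y ≤ U x) ((γ x)⁻¹) := by
    rw [show rU (inf_le_right : U x ⊓ U y ≤ U y) (γ y)⁻¹ = (rU (inf_le_right : U x ⊓ U y ≤ U y) (γ y))⁻¹ from map_inv _ _,
      show rU (inf_le_left : U x ⊓ U y ≤ U x) (γ x)⁻¹ = (rU (inf_le_left : U x ⊓ U y ≤ U x) (γ x))⁻¹ from map_inv _ _,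
      eq_inv_iff_mul_eq_one, mul_right_comm, h, mul_inv_cancel]
  exact congrArg Units.val h'

end Groth.Agent.EtPic91
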