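import Groth.Agent.EtPic91.H1Gm
import Groth.Agent.Unr55.Et.Kummer

/-!
The Kummer sequence on an affine scheme with trivial Picard group.
-/

set_option autoImplicit false
set_option backward.isDefEq.respectTransparency.types false
set_option maxHeartbeats 400000

universe u

open CategoryTheory CategoryTheory.Limits AlgebraicGeometry Opposite CategoryTheory.Abelian

namespace Groth.Agent.EtPic91

open Groth.Agent.Unr55

theorem toMul_down_nsmul {X : Scheme.{u}} {U : X.Etale} (n : ℕ) (s : EtCoh.sect (EtCoh.Gm X) U) :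
    ((Additive.toMul (ULift.down (n • s)) : (Γ(U.left, ⊤))ˣ)) = (Additive.toMul (ULift.down s) : (Γ(U.left, ⊤))ˣ) ^ n :=
  rfl

theorem powMap_app {X : Scheme.{u}} {U : X.Etale} (n : ℕ) (s : EtCoh.sect (EtCoh.Gm X) U) :
    (EtCoh.powMap X n).hom.app (op U) s = n • s := by
  induction n with
  | zero =>
    rw [EtCoh.powMap, zero_nsmul]
    simp only [zero_nsmul]
    rfl
  | succ n ih =>
    rw [EtCoh.powMap, succ_nsmul, succ_nsmul]
    rw [EtCoh.powMap] at ih
    change (n • 𝟙 (EtCoh.Gm X)).hom.app (op U) s + s = n • s + s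
    rw [ih]

/-- Units modulo `n`-th powers compute `H¹(μ_n)` when the Picard group is trivial. -/
theorem nonempty_H1_mu_equiv (A : Type u) [CommRing A] [Subsingleton (CommRing.Pic A)] (n : ℕ)
    (hn : IsUnit (n : A)) {G : Type*} [AddCommGroup G] (π : Additive Aˣ →+ G) (hπ : Function.Surjective π)
    (hker : ∀ v, π v = 0 ↔ ∃ w, n • w = v) :
    Nonempty (EtCoh.H (Spec (CommRingCat.of A)) (EtCoh.mu (Spec (CommRingCat.of A)) n) 1 ≃+ G) := by
  have hn' : IsUnit (n : Γ(Spec (CommRingCat.of A), ⊤)) := by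
    simpa using hn.map (Scheme.ΓSpecIso (CommRingCat.of A)).inv.hom
  have hepi := EtSh.epi_powMap (Spec (CommRingCat.of A)) n hn'
  let S : ShortComplex (EtCoh.Ab (Spec (CommRingCat.of A))) :=
    ShortComplex.mk (EtCoh.muι (Spec (CommRingCat.of A)) n) (EtCoh.powMap _ n) (kernel.condition _)
  have : Mono S.f := inferInstanceAs (Mono (kernel.ι _))
  have : Epi S.g := hepi
  have hS : S.ShortExact := { exact := ShortComplex.exact_of_f_is_kernel _ (kernelIsKernel _) }
  let hT := EtSh.isTerminalTop (Spec (CommRingCat.of A))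
  let Θ := Unr55.ExtCmp.homTop hT (EtCoh.Gm (Spec (CommRingCat.of A)))
  let φ : EtCoh.sect (EtCoh.Gm (Spec (CommRingCat.of A))) (EtCoh.top _) →+
      EtCoh.H (Spec (CommRingCat.of A)) (EtCoh.mu (Spec (CommRingCat.of A)) n) 1 :=
    AddMonoidHom.mk' (fun σ => (Ext.mk₀ (Θ.symm σ)).comp hS.extClass (zero_add 1)) (fun σ τ => by
      rw [map_add, Ext.mk₀_add, Ext.add_comp])
  have hφ : Function.Surjective φ := fun x => by
    have := H1_Gm_subsingleton A
    obtain ⟨y, hy⟩ := Ext.covariant_sequence_exact₁ _ hS x (Subsingleton.elim _ _) (zero_add 1)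
    obtain ⟨c, rfl⟩ := (Ext.mk₀_bijective _ _).2 y
    exact ⟨Θ c, (congrArg (fun z => (Ext.mk₀ z).comp hS.extClass (zero_add 1)) (Θ.symm_apply_apply c)).trans hy⟩
  let e : Additive (Γ(Spec (CommRingCat.of A), ⊤))ˣ ≃+ Additive Aˣ :=
    (Units.mapEquiv (Scheme.ΓSpecIso (CommRingCat.of A)).commRingCatIsoToRingEquiv.toMulEquiv).toAdditive
  let E : EtCoh.sect (EtCoh.Gm (Spec (CommRingCat.of A))) (EtCoh.top _) ≃+ Additive Aˣ :=
    (AddEquiv.ulift (α := Additive (Γ(Spec (CommRingCat.of A), ⊤))ˣ)).trans e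
  refine ⟨Unr55.ExtCmp.equivOfKer φ (π.comp E.toAddMonoidHom) hφ (hπ.comp E.surjective) ?_⟩
  ext σ
  change (Ext.mk₀ (Θ.symm σ)).comp hS.extClass (zero_add 1) = 0 ↔ π (E σ) = 0
  constructor
  · intro h
    obtain ⟨y, hy⟩ := Ext.covariant_sequence_exact₃ _ hS _ (zero_add 1) h
    obtain ⟨c, rfl⟩ := (Ext.mk₀_bijective _ _).2 y
    rw [Ext.mk₀_comp_mk₀] at hy
    have h' := congrArg Θ ((Ext.mk₀_bijective _ _).1 hy)
    rw [AddEquiv.apply_symm_apply, Unr55.ExtCmp.homTop_comp, powMap_app] at h'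
    refine (hker _).2 ⟨E (Θ c), ?_⟩
    rw [← map_nsmul, ← h']
  · intro h
    obtain ⟨w, hw⟩ := (hker _).1 h
    obtain ⟨τ, rfl⟩ := E.surjective w
    rw [← map_nsmul] at hw
    have hc : Θ.symm σ = Θ.symm τ ≫ EtCoh.powMap _ n := by
      apply Θ.injective
      rw [AddEquiv.apply_symm_apply, Unr55.ExtCmp.homTop_comp, powMap_app, AddEquiv.apply_symm_apply]
      exact (E.injective hw).symm
    rw [hc, ← Ext.mk₀_comp_mk₀]
    change ((Ext.mk₀ (Θ.symm τ)).comp (Ext.mk₀ S.g) (zero_add 0)).comp hS.extClass (zero_add 1) = 0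
    rw [Ext.comp_assoc_of_second_deg_zero, hS.comp_extClass, Ext.comp_zero]

end Groth.Agent.EtPic91
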