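import Groth.Agent.Unr55.Et.Kummer
import Groth.Prelude.Def_Dix
import Mathlib.Algebra.Homology.DerivedCategory.Ext.ExactSequences
import Mathlib.AlgebraicGeometry.ResidueField

/-!
The image of `H^i(μ_n)` in `H^i(G_m)`.
-/

set_option autoImplicit false
set_option backward.isDefEq.respectTransparency.types false
set_option maxHeartbeats 400000

universe u

open CategoryTheory CategoryTheory.Limits AlgebraicGeometry Opposite CategoryTheory.Abelian

namespace Groth.Agent.EtPic91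

theorem isUnit_natCast_top {X : Scheme.{u}} {n : ℕ} (h : ∀ x : X, (n : X.residueField x) ≠ 0) :
    IsUnit (n : Γ(X, ⊤)) := by
  refine RingedSpace.isUnit_of_isUnit_germ _ ⊤ _ fun x hx => ?_
  have h1 : X.evaluation ⊤ x hx (n : Γ(X, ⊤)) ≠ 0 := by rw [map_natCast]; exact h x
  rw [Scheme.evaluation_ne_zero_iff_mem_basicOpen] at h1
  exact (RingedSpace.mem_basicOpen _ _ _ hx).1 h1

theorem range_muι (X : Scheme.{u}) (n : ℕ) (hn : IsUnit (n : Γ(X, ⊤))) (i : ℕ) :
    Set.range ⇑((EtCoh.HF X i).map (EtCoh.muι X n)) = {ξ : (EtCoh.HF X i).obj (EtCoh.Gm X) | n • ξ = 0} := by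
  have hepi := Unr55.EtSh.epi_powMap X n hn
  let S : ShortComplex (EtCoh.Ab X) :=
    ShortComplex.mk (EtCoh.muι X n) (EtCoh.powMap X n) (kernel.condition _)
  have : Mono S.f := inferInstanceAs (Mono (kernel.ι _))
  have : Epi S.g := hepi
  have hS : S.ShortExact := { exact := ShortComplex.exact_of_f_is_kernel _ (kernelIsKernel _) }
  have hg : ∀ ξ : EtCoh.H X (EtCoh.Gm X) i, ξ.comp (Ext.mk₀ (EtCoh.powMap X n)) (add_zero i) = n • ξ := by
    intro ξ
    suffices h : ∀ k : ℕ, ξ.comp (Ext.mk₀ (k • 𝟙 (EtCoh.Gm X))) (add_zero i) = k • ξ from h n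
    intro k
    induction k with
    | zero => rw [zero_nsmul, zero_nsmul, Ext.mk₀_zero, Ext.comp_zero]
    | succ k ih => rw [succ_nsmul, succ_nsmul, Ext.mk₀_add, Ext.comp_add, ih, Ext.comp_mk₀_id]
  refine Set.ext fun ξ => ⟨?_, fun h => ?_⟩
  · rintro ⟨x, rfl⟩
    change n • ((x : EtCoh.H X _ i).comp (Ext.mk₀ S.f) (add_zero i)) = 0
    rw [← hg]
    change ((x : EtCoh.H X _ i).comp (Ext.mk₀ S.f) (add_zero i)).comp (Ext.mk₀ S.g) (add_zero i) = 0
    rw [Ext.comp_assoc_of_second_deg_zero, Ext.mk₀_comp_mk₀, S.zero, Ext.mk₀_zero, Ext.comp_zero]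
  · obtain ⟨x, hx⟩ := Ext.covariant_sequence_exact₂ _ hS ξ ((hg ξ).trans h)
    exact ⟨x, hx⟩

end Groth.Agent.EtPic91
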