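import Groth.Agent.EtPic91.Kummer
import Groth.Agent.EtPic91.KummerRange
import Groth.Agent.EtPic91.LocalLift
import Groth.Agent.EtRest91.OnePoint
import Mathlib.CategoryTheory.Abelian.Images

/-!
Primary torsion in the cohomology of `G_m` above the cohomological dimension.
-/

set_option autoImplicit false
set_option backward.isDefEq.respectTransparency.types false
set_option maxHeartbeats 400000

universe u

open CategoryTheory CategoryTheory.Limits AlgebraicGeometry Opposite CategoryTheory.Abelian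

namespace Groth.Agent.EtPic91

variable {X : Scheme.{u}}

theorem isPrimaryTorsion_kernel_powMap (ℓ : ℕ) : Dix.IsPrimaryTorsion ℓ (kernel (EtCoh.powMap X ℓ)) := by
  intro U s x
  refine ⟨U, 𝟙 U, ⟨x, rfl⟩, 1, ?_⟩
  apply EtRest91.app_injective_of_mono (kernel.ι (EtCoh.powMap X ℓ)) U
  rw [map_zero, map_nsmul, pow_one, op_id, CategoryTheory.Functor.map_id, ConcreteCategory.id_apply, ← powMap_app]
  exact ConcreteCategory.congr_hom (congrArg (fun k => k.hom.app (op U)) (kernel.condition (EtCoh.powMap X ℓ))) s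

theorem isPrimaryTorsion_cokernel_powMap (ℓ : ℕ) : Dix.IsPrimaryTorsion ℓ (cokernel (EtCoh.powMap X ℓ)) := by
  intro U s x
  have : Sheaf.IsLocallySurjective (cokernel.π (EtCoh.powMap X ℓ)) :=
    (Sheaf.isLocallySurjective_iff_epi' AddCommGrpCat.{u + 1} _).2 inferInstance
  obtain ⟨V, g, v, hg, -, hv⟩ := (Scheme.mem_toGrothendieck_smallPretopology U _).1
    (Unr55.EtaleAff.mem_topology_iff (Presheaf.imageSieve_mem X.smallEtaleTopology (cokernel.π (EtCoh.powMap X ℓ)).hom s)) x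
  obtain ⟨t, ht⟩ := hg
  refine ⟨V, g, ⟨v, hv⟩, 1, ?_⟩
  rw [pow_one]
  refine (congrArg (ℓ • ·) ht.symm).trans ((map_nsmul _ ℓ t).symm.trans ?_)
  refine (congrArg ((cokernel.π (EtCoh.powMap X ℓ)).hom.app (op (V : X.Etale))) (powMap_app (U := (V : X.Etale)) ℓ t).symm).trans ?_
  exact ConcreteCategory.congr_hom (congrArg (fun k => k.hom.app (op (V : X.Etale))) (cokernel.condition (EtCoh.powMap X ℓ))) t

theorem eq_zero_of_nsmul_eq_zero (ℓ i : ℕ) (hK : Subsingleton (EtCoh.H X (kernel (EtCoh.powMap X ℓ)) (i + 1)))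
    (hQ : Subsingleton (EtCoh.H X (cokernel (EtCoh.powMap X ℓ)) i)) (ξ : EtCoh.H X (EtCoh.Gm X) (i + 1))
    (h : ℓ • ξ = 0) : ξ = 0 := by
  let f := EtCoh.powMap X ℓ
  have hg : ∀ k : ℕ, ξ.comp (Ext.mk₀ (k • 𝟙 (EtCoh.Gm X))) (add_zero (i + 1)) = k • ξ := by
    intro k
    induction k with
    | zero => rw [zero_nsmul, zero_nsmul, Ext.mk₀_zero, Ext.comp_zero]
    | succ k ih => rw [succ_nsmul, succ_nsmul, Ext.mk₀_add, Ext.comp_add, ih, Ext.comp_mk₀_id]
  have hf : ξ.comp (Ext.mk₀ f) (add_zero (i + 1)) = 0 := (hg ℓ).trans h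
  let p := Abelian.coimage.π f
  let m := Abelian.factorThruCoimage f
  have hpm : p ≫ m = f := Abelian.coimage.fac f
  let S₁ : ShortComplex (EtCoh.Ab X) := ShortComplex.mk (kernel.ι f) p (cokernel.condition _)
  have hS₁ : S₁.ShortExact :=
    { exact := ShortComplex.exact_of_g_is_cokernel _ (cokernelIsCokernel _)
      mono_f := inferInstanceAs (Mono (kernel.ι f))
      epi_g := inferInstanceAs (Epi (cokernel.π _)) }
  have hmc : m ≫ cokernel.π f = 0 := by
    rw [← cancel_epi p, ← Category.assoc, hpm, cokernel.condition, Limits.comp_zero]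
  let S₂ : ShortComplex (EtCoh.Ab X) := ShortComplex.mk m (cokernel.π f) hmc
  have hS₂ : S₂.ShortExact :=
    { exact := ShortComplex.exact_of_g_is_cokernel _
        (CokernelCofork.IsColimit.ofπ (cokernel.π f) hmc
          (fun k hk => cokernel.desc f k (by rw [← hpm, Category.assoc, hk, Limits.comp_zero]))
          (fun k hk => cokernel.π_desc _ _ _)
          (fun k hk b hb => coequalizer.hom_ext (by rw [cokernel.π_desc]; exact hb)))
      mono_f := inferInstanceAs (Mono (Abelian.factorThruCoimage f))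
      epi_g := inferInstanceAs (Epi (cokernel.π f)) }
  have h1 : ξ.comp (Ext.mk₀ p) (add_zero (i + 1)) = 0 := by
    have h2 : (ξ.comp (Ext.mk₀ p) (add_zero (i + 1))).comp (Ext.mk₀ S₂.f) (add_zero (i + 1)) = 0 := by
      change (ξ.comp (Ext.mk₀ p) (add_zero (i + 1))).comp (Ext.mk₀ m) (add_zero (i + 1)) = 0
      rw [Ext.comp_assoc_of_second_deg_zero, Ext.mk₀_comp_mk₀, hpm]
      exact hf
    obtain ⟨η, hη⟩ := Ext.covariant_sequence_exact₁ _ hS₂ _ h2 rfl
    rw [← hη, hQ.elim η 0, Ext.zero_comp]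
  obtain ⟨ζ, hζ⟩ := Ext.covariant_sequence_exact₂ _ hS₁ ξ h1
  rw [← hζ, hK.elim ζ 0, Ext.zero_comp]

theorem eq_zero_of_pow_nsmul {M : Type*} [AddCommMonoid M] (ℓ : ℕ) (h : ∀ x : M, ℓ • x = 0 → x = 0) :
    ∀ (k : ℕ) (x : M), ℓ ^ k • x = 0 → x = 0
  | 0, x, hx => by rwa [pow_zero, one_nsmul] at hx
  | k + 1, x, hx => eq_zero_of_pow_nsmul ℓ h k x (h _ (by rwa [← mul_nsmul', ← pow_succ']))

theorem primary_torsion_vanish (X : Scheme.{u}) (ℓ n : ℕ) (hcd : Dix.CohDimLEAt X ℓ n) :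
    (∀ i : ℕ, n + 1 < i → ∀ ξ : EtCoh.H X (EtCoh.Gm X) i, (∃ k : ℕ, ℓ ^ k • ξ = 0) → ξ = 0) ∧
    (Dix.InvertibleOn X ℓ → ∀ i : ℕ, n < i → ∀ ξ : EtCoh.H X (EtCoh.Gm X) i, (∃ k : ℕ, ℓ ^ k • ξ = 0) → ξ = 0) := by
  constructor
  · rintro i hi ξ ⟨k, hk⟩
    obtain ⟨i, rfl⟩ := Nat.exists_eq_succ_of_ne_zero (by omega : i ≠ 0)
    exact eq_zero_of_pow_nsmul ℓ (fun x hx => eq_zero_of_nsmul_eq_zero ℓ i
      (hcd _ (isPrimaryTorsion_kernel_powMap ℓ) _ (by omega))
      (hcd _ (isPrimaryTorsion_cokernel_powMap ℓ) _ (by omega)) x hx) k ξ hk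
  · rintro hinv i hi ξ ⟨k, hk⟩
    obtain ⟨i, rfl⟩ := Nat.exists_eq_succ_of_ne_zero (by omega : i ≠ 0)
    have hepi := Unr55.EtSh.epi_powMap X ℓ (isUnit_natCast_top hinv)
    have hz : IsZero (cokernel (EtCoh.powMap X ℓ)) := isZero_cokernel_of_epi _
    exact eq_zero_of_pow_nsmul ℓ (fun x hx => eq_zero_of_nsmul_eq_zero ℓ i
      (hcd _ (isPrimaryTorsion_kernel_powMap ℓ) _ (by omega))
      (subsingleton_of_forall_eq 0 fun y => by
        rw [← Ext.comp_mk₀_id y, hz.eq_of_src (𝟙 _) 0, Ext.mk₀_zero, Ext.comp_zero]) x hx) k ξ hk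

end Groth.Agent.EtPic91
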