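import Groth.Agent.EtPic91.H1GmPic
import Groth.Agent.Amp73.Tensor
import Groth.Agent.Mero90.Triv
import Groth.Prelude.Def_PicGrp

/-!
`Pic X = H¹_et(X, G_m)` as groups.
-/

set_option autoImplicit false
set_option backward.isDefEq.respectTransparency.types false
set_option maxHeartbeats 400000

universe u

open CategoryTheory CategoryTheory.Limits AlgebraicGeometry Opposite CategoryTheory.Abelian
open Groth.Agent.Var76.LineBundle

namespace Groth.Agent.EtPic91

open Groth.Agent.Unr55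

variable {X : Scheme.{u}} {S : ShortComplex (EtCoh.Ab X)} (e : S.X₁ ≅ EtCoh.Gm X)

/-- Restriction of sections between open objects. -/
noncomputable abbrev oRes (F : EtCoh.Ab X) {A B : X.Opens} (h : B ≤ A) (x : EtCoh.sect F (oObj A)) :
    EtCoh.sect F (oObj B) := F.obj.map (oMap h).op x

theorem oRes_oRes (F : EtCoh.Ab X) {A B C : X.Opens} (h : B ≤ A) (h' : C ≤ B) (x : EtCoh.sect F (oObj A)) :
    oRes F h' (oRes F h x) = oRes F (h'.trans h) x := by
  change F.obj.map (oMap h').op (F.obj.map (oMap h).op x) = F.obj.map (oMap (h'.trans h)).op x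
  rw [sect_map_map]
  exact congrArg (fun m => F.obj.map (Quiver.Hom.op m) x) (oObj_hom_ext _ _)

theorem oRes_from (F : EtCoh.Ab X) {A B : X.Opens} (h : B ≤ A) (s : EtCoh.sect F (EtCoh.top X)) :
    oRes F h (F.obj.map ((EtSh.isTerminalTop X).from (oObj A)).op s) =
      F.obj.map ((EtSh.isTerminalTop X).from (oObj B)).op s := by
  change F.obj.map (oMap h).op _ = _
  rw [sect_map_map]
  exact congrArg (fun m => F.obj.map (Quiver.Hom.op m) s) ((EtSh.isTerminalTop X).hom_ext _ _)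

theorem oRes_sub (F : EtCoh.Ab X) {A B : X.Opens} (h : B ≤ A) (x y : EtCoh.sect F (oObj A)) :
    oRes F h (x - y) = oRes F h x - oRes F h y := map_sub (F.obj.map (oMap h).op).hom x y

theorem oRes_add (F : EtCoh.Ab X) {A B : X.Opens} (h : B ≤ A) (x y : EtCoh.sect F (oObj A)) :
    oRes F h (x + y) = oRes F h x + oRes F h y := map_add (F.obj.map (oMap h).op).hom x y

theorem lam_oRes {A B : X.Opens} (h : B ≤ A) (η : (Γ(X, A))ˣ) :
    oRes S.X₂ h (lam e (oObj A) A (range_oObj A).subset (Additive.ofMul η)) =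
      lam e (oObj B) B (range_oObj B).subset (Additive.ofMul (rU h η)) := by
  rw [lam_res e h]
  exact lam_map e (oMap h) _ _

theorem g_oRes {A B : X.Opens} (h : B ≤ A) (x : EtCoh.sect S.X₂ (oObj A)) :
    S.g.hom.app (op (oObj B)) (oRes S.X₂ h x) = oRes S.X₃ h (S.g.hom.app (op (oObj A)) x) :=
  NatTrans.naturality_apply S.g.hom (oMap h).op x

theorem exists_transition (L : X.Modules) {T : X.Opens} {a b : Γ(L, T)} (ha : IsFrame L T a) (hb : IsFrame L T b) :
    ∃ η : (Γ(X, T))ˣ, (η : Γ(X, T)) • b = a := by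
  have hr : ∀ m : Γ(L, T), res L (le_refl T) m = m := fun m => by simp [res]
  obtain ⟨c, hc⟩ := (hb T le_rfl).2 a
  obtain ⟨d, hd⟩ := (ha T le_rfl).2 b
  dsimp only at hc hd
  rw [hr] at hc hd
  have h1 : c * d = 1 := (ha T le_rfl).1 (by
    dsimp only
    rw [hr, mul_smul, hd, hc, one_smul])
  exact ⟨⟨c, d, h1, (mul_comm d c).trans h1⟩, hc⟩

theorem frame_cancel {L : X.Modules} {T : X.Opens} {b : Γ(L, T)} (hb : IsFrame L T b) {c d : Γ(X, T)}
    (h : c • b = d • b) : c = d := by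
  refine (hb T le_rfl).1 ?_
  have hr : res L (le_refl T) b = b := by simp [res]
  dsimp only
  rw [hr]
  exact h

/-- An invertible module presented by local lifts of a section of the quotient. -/
structure Datum (s : EtCoh.sect S.X₃ (EtCoh.top X)) (L : X.Modules) where
  /-- The index type. -/
  ι : Type u
  /-- The cover. -/
  U : ι → X.Opens
  cov : ∀ x, ∃ i, x ∈ U i
  /-- The local lifts. -/
  t : ∀ i, EtCoh.sect S.X₂ (oObj (U i))
  lift : ∀ i, S.g.hom.app (op (oObj (U i))) (t i) = S.X₃.obj.map ((EtSh.isTerminalTop X).from _).op s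
  /-- The frames. -/
  fr : ∀ i, Γ(L, U i)
  frame : ∀ i, IsFrame L (U i) (fr i)
  trans : ∀ (i j : ι) (T : X.Opens) (hi : T ≤ U i) (hj : T ≤ U j) (η : (Γ(X, T))ˣ),
    res L hi (fr i) = (η : Γ(X, T)) • res L hj (fr j) →
      lam e (oObj T) T (range_oObj T).subset (Additive.ofMul η) = oRes S.X₂ hj (t j) - oRes S.X₂ hi (t i)

theorem Datum.invertible {s : EtCoh.sect S.X₃ (EtCoh.top X)} {L : X.Modules} (D : Datum e s L) :
    PicF.IsInvertible L :=
  Mero90.isInvertible_of_frames fun x => by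
    obtain ⟨i, hi⟩ := D.cov x
    exact ⟨D.U i, hi, D.fr i, D.frame i⟩

theorem exists_datum (hS : S.ShortExact) (s : EtCoh.sect S.X₃ (EtCoh.top X)) :
    ∃ L : X.Modules, Nonempty (Datum e s L) := by
  let hT := EtSh.isTerminalTop X
  choose U W σ₀ hmem hUW hW hσ₀ using exists_lift_open hS e s
  let k : ∀ x, oObj (U x) ⟶ W x := fun x =>
    have := hW x
    MorphismProperty.Over.homMk (IsOpenImmersion.lift (W x).hom (U x).ι ((U x).range_ι.trans_subset (hUW x)))
      (IsOpenImmersion.lift_fac (W x).hom (U x).ι ((U x).range_ι.trans_subset (hUW x))) trivial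
  let t : ∀ x, EtCoh.sect S.X₂ (oObj (U x)) := fun x => S.X₂.obj.map (k x).op (σ₀ x)
  have hgt : ∀ x, S.g.hom.app (op (oObj (U x))) (t x) = S.X₃.obj.map (hT.from _).op s := fun x => by
    simp only [t]
    rw [NatTrans.naturality_apply S.g.hom (k x).op, hσ₀, sect_map_map]
    exact congrArg (fun m => S.X₃.obj.map (Quiver.Hom.op m) s) (hT.hom_ext _ _)
  have hex : ∀ x y : X, ∃ η : (Γ(X, U x ⊓ U y))ˣ,
      lam e (oObj (U x ⊓ U y)) _ (range_oObj _).subset (Additive.ofMul η) =
        oRes S.X₂ inf_le_right (t y) - oRes S.X₂ inf_le_left (t x) := fun x y => by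
    refine exists_lam_eq e hS _ _ ?_
    rw [map_sub, g_oRes, g_oRes, hgt, hgt, oRes_from, oRes_from, sub_self]
  choose η hη using hex
  have hη' : ∀ (x y : X) (T : X.Opens) (h : T ≤ U x ⊓ U y),
      lam e (oObj T) T (range_oObj T).subset (Additive.ofMul (rU h (η x y))) =
        oRes S.X₂ (h.trans inf_le_right) (t y) - oRes S.X₂ (h.trans inf_le_left) (t x) := fun x y T h => by
    rw [← lam_oRes e h, hη, oRes_sub, oRes_oRes, oRes_oRes]
  obtain ⟨L, fr, -, hfr, htr⟩ := Desc59.Pic.Cocycle.exists_invertible U η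
    (top_le_iff.1 fun x _ => TopologicalSpace.Opens.mem_iSup.2 ⟨x, hmem x⟩) (fun x y z => by
      let T := U x ⊓ U y ⊓ U z
      have h : rU (inf_le_inf_right (U z) inf_le_left : T ≤ U x ⊓ U z) (η x z) =
          rU (inf_le_left : T ≤ U x ⊓ U y) (η x y) * rU (inf_le_inf_right (U z) inf_le_right : T ≤ U y ⊓ U z) (η y z) := by
        apply Additive.ofMul.injective
        apply lam_injective e hS T
        rw [ofMul_mul, map_add, hη', hη', hη']
        abel
      exact congrArg Units.val h)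
  refine ⟨L, ⟨⟨X, U, fun x => ⟨x, hmem x⟩, t, hgt, fr, hfr, fun x y T hi hj c hc => ?_⟩⟩⟩
  have h1 := congrArg (res L (le_inf hi hj)) (htr x y)
  rw [res_smul, res_res, res_res] at h1
  have h2 : c = rU (le_inf hi hj) (η x y) := Units.ext (frame_cancel ((hfr y).res hj) (hc.symm.trans h1))
  rw [h2, hη']

theorem datum_unique (hS : S.ShortExact) {s : EtCoh.sect S.X₃ (EtCoh.top X)} {L L' : X.Modules}
    (D : Datum e s L) (D' : Datum e s L') : Nonempty (L ≅ L') := by
  let V : D.ι × D'.ι → X.Opens := fun p => D.U p.1 ⊓ D'.U p.2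
  have hex : ∀ p : D.ι × D'.ι, ∃ γ : (Γ(X, V p))ˣ, lam e (oObj (V p)) _ (range_oObj _).subset (Additive.ofMul γ) =
      oRes S.X₂ inf_le_right (D'.t p.2) - oRes S.X₂ inf_le_left (D.t p.1) := fun p => by
    refine exists_lam_eq e hS _ _ ?_
    rw [map_sub, g_oRes, g_oRes, D.lift, D'.lift, oRes_from, oRes_from, sub_self]
  choose γ hγ using hex
  refine Curves2.Glue.nonempty_iso_of_frames V (fun x => ?_) (fun p => res L inf_le_left (D.fr p.1))
    (fun p => (γ p : Γ(X, V p)) • res L' inf_le_right (D'.fr p.2))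
    (fun p => (D.frame p.1).res inf_le_left) (fun p => ?_) fun p q c hc => ?_
  · obtain ⟨i, hi⟩ := D.cov x
    obtain ⟨k, hk⟩ := D'.cov x
    exact ⟨(i, k), hi, hk⟩
  · intro T hT
    have h := (D'.frame p.2) T (hT.trans inf_le_right)
    have hu : IsUnit (X.presheaf.map (homOfLE hT).op (γ p : Γ(X, V p))) := (γ p).isUnit.map _
    convert h.comp ((Units.mulRight hu.unit).bijective) using 1
    funext a
    change a • res L' hT ((γ p : Γ(X, V p)) • res L' inf_le_right (D'.fr p.2)) = (a * _) • res L' _ (D'.fr p.2)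
    rw [res_smul, res_res, ← mul_smul, hu.unit_spec]
  · rw [res_res, res_res] at hc
    let T := V p ⊓ V q
    have hpi : T ≤ D.U p.1 := inf_le_left.trans inf_le_left
    have hqi : T ≤ D.U q.1 := inf_le_right.trans inf_le_left
    have hpk : T ≤ D'.U p.2 := inf_le_left.trans inf_le_right
    have hqk : T ≤ D'.U q.2 := inf_le_right.trans inf_le_right
    obtain ⟨η, hη⟩ := exists_transition L ((D.frame p.1).res hpi) ((D.frame q.1).res hqi)
    obtain ⟨η', hη'⟩ := exists_transition L' ((D'.frame p.2).res hpk) ((D'.frame q.2).res hqk)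
    have hcη : c = η := frame_cancel ((D.frame q.1).res hqi) (hc.trans hη.symm)
    have key : η * rU (inf_le_right : T ≤ V q) (γ q) = rU (inf_le_left : T ≤ V p) (γ p) * η' := by
      apply Additive.ofMul.injective
      apply lam_injective e hS T
      rw [ofMul_mul, ofMul_mul, map_add, map_add, D.trans _ _ T hpi hqi η hη.symm,
        D'.trans _ _ T hpk hqk η' hη'.symm, ← lam_oRes e, ← lam_oRes e, hγ, hγ, oRes_sub, oRes_sub,
        oRes_oRes, oRes_oRes, oRes_oRes, oRes_oRes]
      abel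
    rw [res_smul, res_smul, res_res, res_res, hcη, ← mul_smul, ← hη', ← mul_smul]
    exact congrArg (· • res L' hqk (D'.fr q.2)) (congrArg Units.val key)

theorem datum_of_lift {s : EtCoh.sect S.X₃ (EtCoh.top X)} (σ : EtCoh.sect S.X₂ (EtCoh.top X))
    (hσ : S.g.hom.app (op (EtCoh.top X)) σ = s) : Nonempty (Datum e s (Coh.structureModule X)) := by
  refine ⟨⟨PUnit, fun _ => ⊤, fun x => ⟨⟨⟩, trivial⟩,
    fun _ => S.X₂.obj.map ((EtSh.isTerminalTop X).from _).op σ, fun i => ?_,
    fun _ => ((1 : (Γ(X, ⊤))ˣ) : Γ(X, ⊤)), fun _ => isFrame_unit ⊤ 1, fun i j T hi hj η hη => ?_⟩⟩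
  · rw [NatTrans.naturality_apply S.g.hom, hσ]
  · have h1 : η = 1 := Units.ext (frame_cancel ((isFrame_unit ⊤ 1).res hj)
      (hη.symm.trans (one_smul Γ(X, T) _).symm))
    rw [h1, ofMul_one, map_zero, oRes_from, sub_self]

theorem lift_of_datum {s : EtCoh.sect S.X₃ (EtCoh.top X)} (D : Datum e s (Coh.structureModule X)) :
    ∃ σ : EtCoh.sect S.X₂ (EtCoh.top X), S.g.hom.app (op (EtCoh.top X)) σ = s := by
  let hT := EtSh.isTerminalTop X
  have hu : ∀ i, IsUnit (show Γ(X, D.U i) from D.fr i) := fun i => isUnit_of_frame_unit (D.frame i)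
  let h : ∀ i, (Γ(X, D.U i))ˣ := fun i => (hu i).unit
  let t' : ∀ i, EtCoh.sect S.X₂ (oObj (D.U i)) := fun i =>
    D.t i + lam e (oObj (D.U i)) (D.U i) (range_oObj _).subset (Additive.ofMul (h i))
  obtain ⟨σ, hσ, -⟩ := exists_glue S.X₂ D.U D.cov t' (fun i j => by
    let T := D.U i ⊓ D.U j
    obtain ⟨η, hη⟩ := exists_transition (Coh.structureModule X) ((D.frame i).res (inf_le_left : T ≤ D.U i))
      ((D.frame j).res (inf_le_right : T ≤ D.U j))
    have hh : rU (inf_le_left : T ≤ D.U i) (h i) = η * rU (inf_le_right : T ≤ D.U j) (h j) := Units.ext hη.symm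
    change oRes S.X₂ (inf_le_left : T ≤ D.U i) (t' i) = oRes S.X₂ (inf_le_right : T ≤ D.U j) (t' j)
    simp only [t']
    rw [oRes_add, oRes_add, lam_oRes e, lam_oRes e, hh, ofMul_mul, map_add, D.trans i j T _ _ η hη.symm]
    abel)
  refine ⟨σ, ?_⟩
  obtain ⟨s', -, hs'⟩ := exists_glue S.X₃ D.U D.cov (fun i => S.X₃.obj.map (hT.from _).op s)
    (fun i j => (oRes_from S.X₃ _ s).trans (oRes_from S.X₃ _ s).symm)
  refine (hs' _ fun i => ?_).trans (hs' s fun i => rfl).symm
  rw [← NatTrans.naturality_apply S.g.hom, hσ]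
  simp only [t', map_add]
  rw [D.lift, app_g_lam e, add_zero]

theorem datum_add {s s' : EtCoh.sect S.X₃ (EtCoh.top X)} {L L' : X.Modules} (D : Datum e s L)
    (D' : Datum e s' L') : Nonempty (Datum e (s + s') (CohB1.tensorMod L L')) := by
  refine ⟨⟨D.ι × D'.ι, fun p => D.U p.1 ⊓ D'.U p.2, fun x => ?_,
    fun p => oRes S.X₂ inf_le_left (D.t p.1) + oRes S.X₂ inf_le_right (D'.t p.2), fun p => ?_,
    fun p => Amp73.tm L L' (res L inf_le_left (D.fr p.1)) (res L' inf_le_right (D'.fr p.2)),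
    fun p => Amp73.isFrame_tm ((D.frame p.1).res _) ((D'.frame p.2).res _), fun p q T hp hq c hc => ?_⟩⟩
  · obtain ⟨i, hi⟩ := D.cov x
    obtain ⟨k, hk⟩ := D'.cov x
    exact ⟨(i, k), hi, hk⟩
  · rw [map_add, g_oRes, g_oRes, D.lift, D'.lift, oRes_from, oRes_from, map_add]
  · rw [Amp73.res_tm, Amp73.res_tm, res_res, res_res, res_res, res_res] at hc
    obtain ⟨η, hη⟩ := exists_transition L ((D.frame p.1).res (hp.trans inf_le_left))
      ((D.frame q.1).res (hq.trans inf_le_left))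
    obtain ⟨η', hη'⟩ := exists_transition L' ((D'.frame p.2).res (hp.trans inf_le_right))
      ((D'.frame q.2).res (hq.trans inf_le_right))
    rw [← hη, ← hη', Amp73.tm_smul] at hc
    have h1 : c = η * η' := Units.ext (frame_cancel (Amp73.isFrame_tm ((D.frame q.1).res _) ((D'.frame q.2).res _)) hc.symm)
    rw [h1, ofMul_mul, map_add, D.trans _ _ T _ _ η hη.symm, D'.trans _ _ T _ _ η' hη'.symm, oRes_add, oRes_add,
      oRes_oRes, oRes_oRes, oRes_oRes, oRes_oRes]
    abel

theorem exists_sect_datum [Injective S.X₂] (_hS : S.ShortExact) (L : X.Modules) (hL : PicF.IsInvertible L) :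
    ∃ s : EtCoh.sect S.X₃ (EtCoh.top X), Nonempty (Datum e s L) := by
  choose U hmem a ha using Mero90.exists_frame' hL
  choose η hη using fun x y : X =>
    exists_transition L ((ha x).res (inf_le_left : U x ⊓ U y ≤ U x)) ((ha y).res (inf_le_right : U x ⊓ U y ≤ U y))
  have hη' : ∀ (x y : X) (T : X.Opens) (h : T ≤ U x ⊓ U y),
      (rU h (η x y) : Γ(X, T)) • res L (h.trans inf_le_right) (a y) = res L (h.trans inf_le_left) (a x) := by
    intro x y T h
    have h1 := congrArg (res L h) (hη x y)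
    rw [res_smul, res_res, res_res] at h1
    exact h1
  have hcoc : ∀ (x y z : X) (T : X.Opens) (hx : T ≤ U x) (hy : T ≤ U y) (hz : T ≤ U z),
      rU (le_inf hx hz) (η x z) = rU (le_inf hx hy) (η x y) * rU (le_inf hy hz) (η y z) := by
    intro x y z T hx hy hz
    refine Units.ext ((ha z T hz).1 ?_)
    dsimp only
    rw [Units.val_mul, mul_smul]
    exact (hη' x z T _).trans ((hη' x y T (le_inf hx hy)).symm.trans
      (congrArg (_ • ·) (hη' y z T (le_inf hy hz)).symm))
  have : Injective S.X₂.obj :=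
    have : (presheafToSheaf X.smallEtaleTopology AddCommGrpCat.{u + 1}).PreservesMonomorphisms := inferInstance
    Injective.injective_of_adjoint (sheafificationAdjunction X.smallEtaleTopology AddCommGrpCat.{u + 1}) S.X₂
  obtain ⟨t, ht⟩ := exists_cochain U S.X₂.obj
    (fun V i j hi hj => lam e V (U i ⊓ U j) (fun z hz => ⟨hi hz, hj hz⟩) (Additive.ofMul (η i j)))
    (fun g i j hi hj => lam_map e g _ _) (fun V i j l hi hj hl => by
      have h : Set.range V.hom ⊆ ((U i ⊓ U j ⊓ U l : X.Opens) : Set X) := fun z hz => ⟨⟨hi hz, hj hz⟩, hl hz⟩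
      rw [← lam_res e (le_inf (inf_le_left.trans inf_le_left) (inf_le_left.trans inf_le_right) :
          U i ⊓ U j ⊓ U l ≤ U i ⊓ U j) h,
        ← lam_res e (le_inf (inf_le_left.trans inf_le_right) inf_le_right : U i ⊓ U j ⊓ U l ≤ U j ⊓ U l) h,
        ← lam_res e (le_inf (inf_le_left.trans inf_le_left) inf_le_right : U i ⊓ U j ⊓ U l ≤ U i ⊓ U l) h,
        ← map_add, ← ofMul_mul]
      exact congrArg (fun u => lam e V _ h (Additive.ofMul u)) (hcoc i j l (U i ⊓ U j ⊓ U l)
        (inf_le_left.trans inf_le_left) (inf_le_left.trans inf_le_right) inf_le_right).symm)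
  obtain ⟨s, hs, -⟩ := exists_glue S.X₃ U (fun x => ⟨x, hmem x⟩) (fun x => S.g.hom.app _ (t x)) (fun x y => by
    change oRes S.X₃ _ _ = oRes S.X₃ _ _
    rw [← g_oRes, ← g_oRes]
    refine (sub_eq_zero.1 ?_).symm
    rw [← map_sub, ht]
    exact app_g_lam e _ _)
  refine ⟨s, ⟨⟨X, U, fun x => ⟨x, hmem x⟩, t, fun x => (hs x).symm, a, ha, fun x y T hi hj c hc => ?_⟩⟩⟩
  have h2 : c = rU (le_inf hi hj) (η x y) :=
    Units.ext (frame_cancel ((ha y).res hj) (hc.symm.trans (hη' x y T (le_inf hi hj)).symm))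
  rw [h2, ← lam_oRes e (le_inf hi hj)]
  have h3 := congrArg (oRes S.X₂ (le_inf hi hj)) (ht x y)
  rw [oRes_sub, oRes_oRes, oRes_oRes] at h3
  exact h3.symm

theorem nonempty_pic_equiv (X : Scheme.{u}) [PicGrp.Law X] :
    Nonempty (Additive (PicLoc.PicSet X) ≃+ EtCoh.H X (EtCoh.Gm X) 1) := by
  let F := EtCoh.Gm X
  let S : ShortComplex (EtCoh.Ab X) :=
    ShortComplex.mk (Injective.ι F) (cokernel.π (Injective.ι F)) (cokernel.condition _)
  have hS : S.ShortExact := { exact := ShortComplex.exact_of_g_is_cokernel _ (cokernelIsCokernel _) }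
  have : Injective S.X₂ := inferInstanceAs (Injective (Injective.under F))
  let e : S.X₁ ≅ EtCoh.Gm X := Iso.refl F
  choose L hL using fun s => exists_datum e hS s
  have hinv : ∀ s, PicF.IsInvertible (L s) := fun s => (hL s).some.invertible
  let ψ : EtCoh.sect S.X₃ (EtCoh.top X) →+ Additive (PicLoc.PicSet X) :=
    AddMonoidHom.mk' (fun s => Additive.ofMul (PicGrp.cls (L s) (hinv s))) (fun s s' => by
      refine congrArg Additive.ofMul (Subtype.ext ?_)
      refine Eq.trans ?_ (PicGrp.cls_mul_cls_val (hinv s) (hinv s')).symm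
      obtain ⟨D⟩ := datum_add e (hL s).some (hL s').some
      exact (PicGrp.cl_eq_cl_iff _ _).2 (datum_unique e hS (hL (s + s')).some D))
  have hψ : Function.Surjective ψ := fun c => by
    obtain ⟨M, hM, hc⟩ := PicGrp.exists_eq_cls (Additive.toMul c)
    obtain ⟨s, ⟨D⟩⟩ := exists_sect_datum e hS M hM
    refine ⟨s, ?_⟩
    change Additive.ofMul (PicGrp.cls (L s) (hinv s)) = c
    rw [(PicGrp.cls_eq_cls_iff (hinv s) hM).2 (datum_unique e hS (hL s).some D), ← hc]
    rfl
  let hT := EtSh.isTerminalTop X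
  let Θ := Unr55.ExtCmp.homTop hT S.X₃
  let φ : EtCoh.sect S.X₃ (EtCoh.top X) →+ EtCoh.H X (EtCoh.Gm X) 1 :=
    AddMonoidHom.mk' (fun σ => (Ext.mk₀ (Θ.symm σ)).comp hS.extClass (zero_add 1)) (fun σ τ => by
      rw [map_add, Ext.mk₀_add, Ext.add_comp])
  have hφ : Function.Surjective φ := fun x => by
    obtain ⟨y, hy⟩ := Ext.covariant_sequence_exact₁ _ hS x
      ((Ext.subsingleton_of_injective _ S.X₂ 0).elim _ _) (zero_add 1)
    obtain ⟨c, rfl⟩ := (Ext.mk₀_bijective _ _).2 y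
    exact ⟨Θ c, (congrArg (fun z => (Ext.mk₀ z).comp hS.extClass (zero_add 1)) (Θ.symm_apply_apply c)).trans hy⟩
  refine ⟨(Unr55.ExtCmp.equivOfKer φ ψ hφ hψ ?_).symm⟩
  ext s
  change (Ext.mk₀ (Θ.symm s)).comp hS.extClass (zero_add 1) = 0 ↔ Additive.ofMul (PicGrp.cls (L s) (hinv s)) = 0
  rw [ofMul_eq_zero, PicGrp.cls_eq_one_iff]
  constructor
  · intro h
    obtain ⟨y, hy⟩ := Ext.covariant_sequence_exact₃ _ hS _ (zero_add 1) h
    obtain ⟨c, rfl⟩ := (Ext.mk₀_bijective _ _).2 y
    rw [Ext.mk₀_comp_mk₀] at hy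
    have h' := congrArg Θ ((Ext.mk₀_bijective _ _).1 hy)
    rw [AddEquiv.apply_symm_apply, Unr55.ExtCmp.homTop_comp] at h'
    obtain ⟨D⟩ := datum_of_lift e _ h'
    exact datum_unique e hS (hL s).some D
  · rintro ⟨i⟩
    have D := (hL s).some
    obtain ⟨σ, hσ⟩ := lift_of_datum e (⟨D.ι, D.U, D.cov, D.t, D.lift, fun j => i.hom.app _ (D.fr j),
      fun j => isFrame_of_iso i (D.frame j), fun j l T hj hl η hη => D.trans j l T hj hl η (by
        rw [← Mero90.app_res, ← Mero90.app_res, ← Scheme.Modules.Hom.app_smul] at hη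
        have hq := congrArg (i.inv.app T) hη
        exact ((congrArg (fun f : L s ⟶ L s => f.app T (res (L s) hj (D.fr j))) i.hom_inv_id).symm.trans hq).trans
          (congrArg (fun f : L s ⟶ L s => f.app T ((η : Γ(X, T)) • res (L s) hl (D.fr l))) i.hom_inv_id))⟩ :
      Datum e s (Coh.structureModule X))
    have hc : Θ.symm s = (Unr55.ExtCmp.homTop hT S.X₂).symm σ ≫ S.g := by
      apply Θ.injective
      rw [AddEquiv.apply_symm_apply, Unr55.ExtCmp.homTop_comp, AddEquiv.apply_symm_apply, hσ]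
    rw [hc, ← Ext.mk₀_comp_mk₀, Ext.comp_assoc_of_second_deg_zero, hS.comp_extClass, Ext.comp_zero]

end Groth.Agent.EtPic91
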