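import Groth.Agent.EtPic91.LocalLift
import Groth.Agent.EtTor93.Hpull
import Groth.Agent.Unr55.Et.ExtCompareClass

/-!
Classes in `H¹(G_m)` vanish Zariski locally.
-/

set_option autoImplicit false
set_option backward.isDefEq.respectTransparency.types false
set_option maxHeartbeats 400000

universe u

open CategoryTheory CategoryTheory.Limits AlgebraicGeometry Opposite CategoryTheory.Abelian

namespace Groth.Agent.EtPic91

open Groth.Agent.Unr55

variable {X Y : Scheme.{u}}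

/-- A pulled back section lifts if the section lifts on an object through which the map factors. -/
theorem exists_pull_lift (h : Y ⟶ X) {S : ShortComplex (EtCoh.Ab X)}
    (c0 : (constantSheaf X.smallEtaleTopology AddCommGrpCat.{u + 1}).obj (AddCommGrpCat.of (ULift.{u + 1} ℤ)) ⟶ S.X₃)
    {W : X.Etale} (σ : EtCoh.sect S.X₂ W)
    (hσ : S.g.hom.app (op W) σ = S.X₃.obj.map ((EtSh.isTerminalTop X).from W).op
      (Unr55.ExtCmp.homTop (EtSh.isTerminalTop X) S.X₃ c0))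
    (r : Y ⟶ W.left) (hr : r ≫ W.hom = h) :
    ∃ b, b ≫ (EtCoh.pull h).map S.g = (EtCoh.pull h).map c0 := by
  let hT := EtSh.isTerminalTop X
  let adj := EtCoh.pullPushAdj h
  let k : (EtCoh.bc h).obj (EtCoh.top X) ⟶ (EtCoh.bc h).obj W :=
    MorphismProperty.Over.homMk (pullback.lift (pullback.snd (EtCoh.top X).hom h ≫ r)
      (pullback.snd (EtCoh.top X).hom h) (by rw [Category.assoc, hr]))
      (pullback.lift_snd _ _ _) trivial
  let y : EtCoh.sect ((EtCoh.push h).obj ((EtCoh.pull h).obj S.X₂)) (EtCoh.top X) :=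
    ((EtCoh.pull h).obj S.X₂).obj.map k.op ((adj.unit.app S.X₂).hom.app (op W) σ)
  let bh : _ ⟶ (EtCoh.push h).obj ((EtCoh.pull h).obj S.X₂) := (Unr55.ExtCmp.homTop hT _).symm y
  refine ⟨(adj.homEquiv _ _).symm bh, ?_⟩
  apply (adj.homEquiv _ _).injective
  rw [Adjunction.homEquiv_naturality_right, Equiv.apply_symm_apply, Adjunction.homEquiv_unit,
    adj.unit_naturality c0]
  apply (Unr55.ExtCmp.homTop hT _).injective
  rw [Unr55.ExtCmp.homTop_comp, AddEquiv.apply_symm_apply, Unr55.ExtCmp.homTop_comp]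
  change ((EtCoh.pull h).map S.g).hom.app (op ((EtCoh.bc h).obj (EtCoh.top X))) y =
    (adj.unit.app S.X₃).hom.app (op (EtCoh.top X)) (Unr55.ExtCmp.homTop hT S.X₃ c0)
  rw [NatTrans.naturality_apply ((EtCoh.pull h).map S.g).hom k.op]
  have e : ((EtCoh.pull h).map S.g).hom.app (op ((EtCoh.bc h).obj W)) ((adj.unit.app S.X₂).hom.app (op W) σ) =
      (adj.unit.app S.X₃).hom.app (op W) (S.g.hom.app (op W) σ) :=
    (ConcreteCategory.congr_hom (congrArg (fun m => m.hom.app (op W)) (adj.unit_naturality S.g)) σ)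
  have e2 : (adj.unit.app S.X₃).hom.app (op W) (S.X₃.obj.map ((EtSh.isTerminalTop X).from W).op
      (Unr55.ExtCmp.homTop (EtSh.isTerminalTop X) S.X₃ c0)) =
    ((EtCoh.pull h).obj S.X₃).obj.map ((EtCoh.bc h).map ((EtSh.isTerminalTop X).from W)).op
      ((adj.unit.app S.X₃).hom.app (op (EtCoh.top X)) (Unr55.ExtCmp.homTop (EtSh.isTerminalTop X) S.X₃ c0)) :=
    NatTrans.naturality_apply (adj.unit.app S.X₃).hom ((EtSh.isTerminalTop X).from W).op
      (Unr55.ExtCmp.homTop (EtSh.isTerminalTop X) S.X₃ c0)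
  rw [e, hσ, e2]
  rw [← ConcreteCategory.comp_apply, ← Functor.map_comp, ← op_comp,
    (EtCore.bcTopIsTerminal h).hom_ext (k ≫ (EtCoh.bc h).map ((EtSh.isTerminalTop X).from W)) (𝟙 _),
    op_id, CategoryTheory.Functor.map_id]
  rfl

theorem exists_open_Hpull_eq_zero (X : Scheme.{u}) (c : EtCoh.H X (EtCoh.Gm X) 1) (x : X) :
    ∃ U : X.Opens, x ∈ U ∧ ∀ [PreservesFiniteLimits (EtCoh.pull U.ι)],
      EtCore.Hpull U.ι (EtCoh.Gm X) 1 c = 0 := by
  let F := EtCoh.Gm X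
  let S : ShortComplex (EtCoh.Ab X) :=
    ShortComplex.mk (Injective.ι F) (cokernel.π (Injective.ι F)) (cokernel.condition _)
  have hS : S.ShortExact := { exact := ShortComplex.exact_of_g_is_cokernel _ (cokernelIsCokernel _) }
  have : Injective S.X₂ := inferInstanceAs (Injective (Injective.under F))
  obtain ⟨y, hy⟩ := Ext.covariant_sequence_exact₁ _ hS c
    ((Ext.subsingleton_of_injective _ S.X₂ 0).elim _ _) rfl
  obtain ⟨c0, rfl⟩ := (Ext.mk₀_bijective _ _).2 y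
  obtain ⟨U, W, σ, hxU, hUW, hW, hσ⟩ := exists_lift_open hS (Iso.refl F)
    (Unr55.ExtCmp.homTop (EtSh.isTerminalTop X) S.X₃ c0) x
  refine ⟨U, hxU, fun {_} => ?_⟩
  have := hW
  obtain ⟨b, hb⟩ := exists_pull_lift U.ι c0 σ hσ
    (IsOpenImmersion.lift W.hom U.ι (by rw [U.range_ι]; exact hUW)) (IsOpenImmersion.lift_fac _ _ _)
  rw [← hy]
  refine (EtTor93.Hpull_comp_extClass U.ι hS 0 (Ext.mk₀ c0)).trans ?_
  have e : EtCore.Hpull U.ι S.X₃ 0 (Ext.mk₀ c0) =
      (Ext.mk₀ ((EtCore.pullConst U.ι ℤ).inv ≫ b)).comp (Ext.mk₀ ((EtCoh.pull U.ι).map S.g)) (add_zero 0) := by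
    change (Ext.mk₀ (EtCore.pullConst U.ι ℤ).inv).comp
      ((EtCoh.pull U.ι).mapExtAddHom _ _ 0 (Ext.mk₀ c0)) (zero_add 0) = _
    simp only [Functor.mapExtAddHom_coe]
    rw [Ext.mapExactFunctor_mk₀, Ext.mk₀_comp_mk₀, Ext.mk₀_comp_mk₀, Category.assoc, hb]
  rw [e]
  change ((Ext.mk₀ ((EtCore.pullConst U.ι ℤ).inv ≫ b)).comp (Ext.mk₀ (S.map (EtCoh.pull U.ι)).g) (add_zero 0)).comp
    (hS.map_of_exact (EtCoh.pull U.ι)).extClass _ = 0
  rw [Ext.comp_assoc_of_second_deg_zero]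
  exact (congrArg (fun z => Ext.comp (Ext.mk₀ ((EtCore.pullConst U.ι ℤ).inv ≫ b)) z _)
    (hS.map_of_exact (EtCoh.pull U.ι)).comp_extClass).trans (Ext.comp_zero _ _ _ _ _)

end Groth.Agent.EtPic91
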